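import Groth.Agent.Lib.FundIso27.LocalIso
import Groth.Agent.Lib.IdealModSec.Basic
import Groth.Agent.Lib.H1Sheaf6.Conormal
import Groth.Agent.Lib.QCoh.PullbackSections
import Groth.Agent.Lib.UnitsThick26.FlatIdeal
import Groth.Agent.Lib.QCoh.Pieces
import Groth.Prelude.Def_Omega2
import Groth.Prelude.Def_ExtPow2

/-!
# Frames of a closed immersion and the conormal sheaf
-/

set_option autoImplicit false
set_option maxHeartbeats 1600000
set_option linter.style.haveILetI false
set_option backward.isDefEq.respectTransparency false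

universe u

open CategoryTheory CategoryTheory.Limits AlgebraicGeometry Opposite TopologicalSpace TensorProduct
open GrothLib.InvExt (mres fres IsGen)

noncomputable section

namespace GrothLib.FundIso27

section Rel

variable {A : Type u} [CommRing A] {c : ℕ}

theorem relation_mem {P : Scheme.{u}} {U : P.Opens} {f : Fin c → Γ(P, U)}
    (hf : RingTheory.Sequence.IsWeaklyRegular Γ(P, U) (List.ofFn f)) {a : Fin c → Γ(P, U)} (ha : pv f a = 0)
    (i : Fin c) : a i ∈ Ideal.span (Set.range f) := by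
  have hx : kd f 0 (exteriorPower.ιMulti Γ(P, U) 1 fun _ => a) = 0 := by
    rw [kd_ιMulti, Fin.sum_univ_one, ha, mul_zero, zero_smul]
  obtain ⟨y, hy⟩ := (kd_exact f hf 0 _).1 hx
  have h := congrArg (fun z => exteriorPower.zeroEquiv Γ(P, U) (Fin c → Γ(P, U)) (hcomp 0 i z)) hy
  simp only [kd_eq_sum f 1, LinearMap.sum_apply, LinearMap.smul_apply, map_sum, map_smul, smul_eq_mul] at h
  have hR : exteriorPower.zeroEquiv Γ(P, U) (Fin c → Γ(P, U))
      (hcomp 0 i (exteriorPower.ιMulti Γ(P, U) 1 fun _ => a)) = a i := by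
    simp [hcomp, kd_ιMulti, pv_apply, Pi.single_apply, exteriorPower.zeroEquiv_ιMulti]
  rw [← hR, ← h]
  exact Ideal.sum_mem _ fun j _ => Ideal.mul_mem_right _ _ (Ideal.subset_span ⟨j, rfl⟩)

end Rel

theorem pullSec_mres {X Y : Scheme.{u}} (g : Y ⟶ X) (F : X.Modules) {U U' : X.Opens} {T T' : Y.Opens}
    (e : T ≤ g ⁻¹ᵁ U) (e' : T' ≤ g ⁻¹ᵁ U') (hU : U' ≤ U) (hT : T' ≤ T) (s : Γ(F, U)) :
    mres _ hT (QCoh.pullSec g F e s) = QCoh.pullSec g F e' (mres F hU s) := by
  let F' := (Scheme.Modules.pullback g).obj F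
  let η := (Scheme.Modules.pullbackPushforwardAdjunction g).unit.app F
  show mres F' hT (mres F' e (η.app U s)) = mres F' e' (η.app U' (mres F hU s))
  refine Eq.trans ?_ (congrArg (mres F' e') (app_mres η hU s)).symm
  show mres F' hT (mres F' e (η.app U s)) = mres F' e' (mres F' (g.preimage_mono hU) (η.app U s))
  exact (InvExt.mres_mres F' e hT _).trans (InvExt.mres_mres F' (g.preimage_mono hU) e' _).symm

variable {P X : Scheme.{u}} (ι' : X ⟶ P) {W : P.Opens} {c : ℕ}

/-- A regular frame of the ideal of a closed subscheme over an open. -/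
structure IsFr (f : Fin c → Γ(P, W)) : Prop where
  regular : RingTheory.Sequence.IsWeaklyRegular Γ(P, W) (List.ofFn f)
  ker : RingHom.ker (ι'.app W).hom = Ideal.span (Set.range f)

variable {ι'} [IsClosedImmersion ι']

theorem span_range_restV {W' : P.Opens} (h : W' ≤ W) (f : Fin c → Γ(P, W)) :
    (Ideal.span (Set.range f)).map (resR h) = Ideal.span (Set.range (restV (resR h) f)) := by
  rw [Ideal.map_span]
  congr 1
  ext z
  simp [restV]

theorem IsFr.ker_restrict {f : Fin c → Γ(P, W)} (hf : IsFr ι' f) (hW : IsAffineOpen W) {W' : P.Opens}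
    (hW' : IsAffineOpen W') (h : W' ≤ W) :
    RingHom.ker (ι'.app W').hom = Ideal.span (Set.range (restV (resR h) f)) := by
  rw [← ι'.ker_apply ⟨W', hW'⟩, ← ι'.ker.map_ideal (U := ⟨W', hW'⟩) (V := ⟨W, hW⟩) h, ι'.ker_apply ⟨W, hW⟩, hf.ker]
  exact span_range_restV h f

theorem flat_resR (hW : IsAffineOpen W) {W' : P.Opens} (hW' : IsAffineOpen W') (h : W' ≤ W) : (resR h).Flat := by
  have h1 : (resR h) = ((𝟙 P : P ⟶ P).appLE W W' h).hom := by
    simp [resR, Scheme.Hom.appLE]
  rw [h1]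
  exact HasRingHomProperty.appLE @Flat (𝟙 P) inferInstance ⟨W, hW⟩ ⟨W', hW'⟩ h

theorem IsFr.restrict {f : Fin c → Γ(P, W)} (hf : IsFr ι' f) (hW : IsAffineOpen W) {W' : P.Opens}
    (hW' : IsAffineOpen W') (h : W' ≤ W) : IsFr ι' (restV (resR h) f) where
  regular := by
    letI := (resR h).toAlgebra
    haveI : Module.Flat Γ(P, W) Γ(P, W') := flat_resR hW hW' h
    have := hf.regular.of_flat (S := Γ(P, W'))
    rwa [List.map_ofFn] at this
  ker := hf.ker_restrict hW hW' h

theorem IsFr.isLFrame {f : Fin c → Γ(P, W)} (hf : IsFr ι' f) (hW : IsAffineOpen W) :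
    IsLFrame f (ClSub.unitToPush ι') where
  regular := hf.regular
  mem i := (RingHom.mem_ker (f := (ι'.app W).hom)).1 (hf.ker ▸ Ideal.subset_span ⟨i, rfl⟩)
  gen W₀ a ha x hx0 hxW := by
    obtain ⟨_, ⟨T, hT, rfl⟩, hxT, hle⟩ := P.isBasis_affineOpens.exists_subset_of_mem_open
      (show x ∈ ((W₀ ⊓ W : P.Opens) : Set P) from ⟨hx0, hxW⟩) (W₀ ⊓ W : P.Opens).2
    have h0 : T ≤ W₀ := hle.trans inf_le_left
    have h1 : T ≤ W := hle.trans inf_le_right
    have hmem : P.presheaf.map (homOfLE h0).op a ∈ RingHom.ker (ι'.app T).hom := by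
      rw [RingHom.mem_ker]
      refine (ConcreteCategory.congr_hom (ι'.naturality (homOfLE h0).op) a).trans ?_
      exact (congrArg (X.presheaf.map _) (show ι'.app W₀ a = 0 from ha)).trans (map_zero _)
    rw [hf.ker_restrict hW hT h1] at hmem
    have := Ideal.mem_map_of_mem (P.presheaf.germ T x hxT).hom hmem
    rw [Ideal.map_span, ← Set.range_comp, TopCat.Presheaf.germ_res_apply] at this
    convert this using 3
    funext i
    exact (TopCat.Presheaf.germ_res_apply P.presheaf (homOfLE h1) x hxT (f i)).symm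
  surj := ι'.app_surjective W hW
  ker a ha := hf.ker ▸ (RingHom.mem_ker (f := (ι'.app W).hom)).2 ha

theorem exists_change {f g : Fin c → Γ(P, W)} (hf : IsFr ι' f) (hg : IsFr ι' g) :
    ∃ m : (Fin c → Γ(P, W)) →ₗ[Γ(P, W)] (Fin c → Γ(P, W)), pv f ∘ₗ m = pv g := by
  have : ∀ i, ∃ a : Fin c → Γ(P, W), pv f a = g i := fun i => by
    obtain ⟨a, ha⟩ := Ideal.mem_span_range_iff_exists_fun.1 (hf.ker ▸ hg.ker.symm ▸ Ideal.subset_span ⟨i, rfl⟩ :
      g i ∈ Ideal.span (Set.range f))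
    exact ⟨a, (pv_apply f a).trans ha⟩
  choose a ha using this
  refine ⟨(Pi.basisFun Γ(P, W) (Fin c)).constr ℕ a, (Pi.basisFun Γ(P, W) (Fin c)).ext fun i => ?_⟩
  rw [LinearMap.comp_apply, Module.Basis.constr_basis, pv_single, ha]

section Conormal

variable {f : Fin c → Γ(P, W)} (hW : IsAffineOpen W)

theorem exists_lift (hf : IsFr ι' f) (hW : IsAffineOpen W) :
    ∃ k : Fin c → Γ(ClSub.idealMod ι'.ker, W), ∀ i, IdealModSec.val ι'.ker W (k i) = f i := by
  refine Classical.skolem.1 fun i => IdealModSec.exists_val_eq ι'.ker ⟨W, hW⟩ (a := f i) ?_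
  rw [ι'.ker_apply, hf.ker]
  exact Ideal.subset_span ⟨i, rfl⟩

/-- The lift of the frame to the ideal module. -/
def fh (hf : IsFr ι' f) : Fin c → Γ(ClSub.idealMod ι'.ker, W) := (exists_lift hf hW).choose

theorem val_fh (hf : IsFr ι' f) (i : Fin c) : IdealModSec.val ι'.ker W (fh hW hf i) = f i :=
  (exists_lift hf hW).choose_spec i

theorem val_sum_smul (hf : IsFr ι' f) (a : Fin c → Γ(P, W)) :
    IdealModSec.val ι'.ker W (∑ i, a i • fh hW hf i) = pv f a := by
  unfold IdealModSec.val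
  rw [map_sum, pv_apply]
  refine Finset.sum_congr rfl fun i _ => ?_
  exact (IdealModSec.val_smul ι'.ker W (a i) (fh hW hf i)).trans (congrArg (a i * ·) (val_fh hW hf i))

/-- The frame of the conormal sheaf. -/
def cn (hf : IsFr ι' f) (i : Fin c) : Γ(Omega.conormal ι', ι' ⁻¹ᵁ W) :=
  QCoh.pullSec ι' (ClSub.idealMod ι'.ker) (le_refl _) (fh hW hf i)

theorem bijective_cn (hf : IsFr ι' f) (T : X.affineOpens) (hT : T.1 ≤ ι' ⁻¹ᵁ W) :
    Function.Bijective fun b : Fin c → Γ(X, T.1) => ∑ i, b i • mres (Omega.conormal ι') hT (cn hW hf i) := by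
  letI : Algebra Γ(P, W) Γ(X, T.1) := (ι'.appLE W T.1 hT).hom.toAlgebra
  haveI := H1Sheaf6.isQuasicoherent_idealMod ι'.ker
  have hb := QCoh.bijective_sectionsMap ι' (ClSub.idealMod ι'.ker) hT rfl hW T.2
  let π : (Fin c → Γ(P, W)) →ₗ[Γ(P, W)] Γ(ClSub.idealMod ι'.ker, W) := Fintype.linearCombination Γ(P, W) (fh hW hf)
  have hπ : ∀ a, IdealModSec.val ι'.ker W (π a) = pv f a := fun a => by
    rw [← val_sum_smul hW hf]; rfl
  have hsurj : Function.Surjective π := fun m => by
    have hm := IdealModSec.val_mem ι'.ker ⟨W, hW⟩ m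
    rw [ι'.ker_apply, hf.ker] at hm
    obtain ⟨a, ha⟩ := Ideal.mem_span_range_iff_exists_fun.1 hm
    exact ⟨a, IdealModSec.val_injective ι'.ker W ((hπ a).trans ((pv_apply f a).trans ha))⟩
  let r : (Fin c → Γ(P, W)) →ₗ[Γ(P, W)] (Fin c → Γ(X, T.1)) := (Algebra.linearMap Γ(P, W) Γ(X, T.1)).compLeft (Fin c)
  have hker : LinearMap.ker π ≤ LinearMap.ker r := fun a ha => by
    refine funext fun i => ?_
    have h1 : a i ∈ Ideal.span (Set.range f) := relation_mem hf.regular
      ((hπ a).symm.trans (by rw [LinearMap.mem_ker.1 ha, IdealModSec.val_zero])) i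
    rw [← hf.ker, RingHom.mem_ker] at h1
    show X.presheaf.map (homOfLE hT).op (ι'.app W (a i)) = 0
    rw [h1, map_zero]
  let δ : Γ(ClSub.idealMod ι'.ker, W) →ₗ[Γ(P, W)] (Fin c → Γ(X, T.1)) :=
    (LinearMap.ker π).liftQ r hker ∘ₗ (π.quotKerEquivOfSurjective hsurj).symm.toLinearMap
  have hδ : ∀ a, δ (π a) = r a := fun a => by
    show (LinearMap.ker π).liftQ r hker ((π.quotKerEquivOfSurjective hsurj).symm (π a)) = _
    rw [show (π.quotKerEquivOfSurjective hsurj).symm (π a) = Submodule.Quotient.mk a from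
      (LinearEquiv.symm_apply_eq _).2 rfl, Submodule.liftQ_apply]
  let Ψ : (Fin c → Γ(X, T.1)) →ₗ[Γ(X, T.1)] Γ(X, T.1) ⊗[Γ(P, W)] Γ(ClSub.idealMod ι'.ker, W) :=
    Fintype.linearCombination Γ(X, T.1) (fun i => (1 : Γ(X, T.1)) ⊗ₜ fh hW hf i)
  have hδi : ∀ i, δ (fh hW hf i) = Pi.single i (1 : Γ(X, T.1)) := fun i => by
    have : π (Pi.single i 1) = fh hW hf i := by
      rw [Fintype.linearCombination_apply_single, one_smul]
    rw [← this, hδ]
    funext j
    simp only [r, LinearMap.compLeft_apply, Function.comp_apply, Pi.single_apply, Algebra.linearMap_apply]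
    split_ifs <;> simp
  let Δ := LinearMap.liftBaseChange Γ(X, T.1) δ
  have h1 : ∀ b, Δ (Ψ b) = b := fun b => by
    rw [Fintype.linearCombination_apply, map_sum]
    simp only [map_smul, Δ, LinearMap.liftBaseChange_tmul, one_smul, hδi]
    funext j
    simp [Finset.sum_apply, Pi.single_apply]
  have hΨ : Function.Bijective Ψ := by
    refine ⟨fun b b' h => by rw [← h1 b, ← h1 b', h], fun z => ?_⟩
    induction z using TensorProduct.induction_on with
    | zero => exact ⟨0, map_zero _⟩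
    | add z w hz hw =>
      obtain ⟨a, rfl⟩ := hz
      obtain ⟨b, rfl⟩ := hw
      exact ⟨a + b, map_add _ _ _⟩
    | tmul b m =>
      obtain ⟨a, rfl⟩ := hsurj m
      refine ⟨fun i => a i • b, ?_⟩
      rw [Fintype.linearCombination_apply, Fintype.linearCombination_apply, TensorProduct.tmul_sum]
      refine Finset.sum_congr rfl fun i _ => ?_
      rw [TensorProduct.smul_tmul', TensorProduct.tmul_smul, TensorProduct.smul_tmul', smul_eq_mul, mul_one]
  have : (fun b : Fin c → Γ(X, T.1) => ∑ i, b i • mres (Omega.conormal ι') hT (cn hW hf i)) =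
      QCoh.sectionsMap ι' (ClSub.idealMod ι'.ker) hT rfl ∘ Ψ := by
    funext b
    rw [Function.comp_apply, Fintype.linearCombination_apply, map_sum]
    refine Finset.sum_congr rfl fun i _ => ?_
    rw [map_smul, QCoh.sectionsMap_tmul, one_smul]
    refine congrArg (b i • ·) ?_
    exact (pullSec_mres ι' (ClSub.idealMod ι'.ker) le_rfl hT le_rfl hT (fh hW hf i)).trans
      (congrArg _ (InvExt.mres_self _ _))
  rw [this]
  exact hb.comp hΨ

theorem mres_cn (hf : IsFr ι' f) {W' : P.Opens} (hW' : IsAffineOpen W') (h : W' ≤ W) (i : Fin c) :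
    mres (Omega.conormal ι') (ι'.preimage_mono h) (cn hW hf i) = cn hW' (hf.restrict hW hW' h) i := by
  refine (pullSec_mres ι' _ _ le_rfl h (ι'.preimage_mono h) _).trans ?_
  refine congrArg _ (IdealModSec.val_injective ι'.ker W' ?_)
  rw [IdealModSec.val_mres, val_fh, val_fh]
  rfl

theorem cn_change {g : Fin c → Γ(P, W)} (hf : IsFr ι' f) (hg : IsFr ι' g)
    (m : (Fin c → Γ(P, W)) →ₗ[Γ(P, W)] (Fin c → Γ(P, W))) (hm : pv f ∘ₗ m = pv g) (i : Fin c) :
    cn hW hg i = ∑ j, ι'.app W (m (Pi.basisFun Γ(P, W) (Fin c) i) j) • cn hW hf j := by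
  have h : fh hW hg i = ∑ j, m (Pi.basisFun Γ(P, W) (Fin c) i) j • fh hW hf j := by
    refine IdealModSec.val_injective ι'.ker W ?_
    rw [val_fh, val_sum_smul, ← LinearMap.comp_apply, hm, pv_single]
  rw [cn, h, map_sum]
  refine Finset.sum_congr rfl fun j _ => ?_
  rw [QCoh.pullSec_smul, Scheme.Hom.appLE_eq_app]
  rfl

end Conormal

section Gen

variable {r : ℕ} {L : X.Modules} (φ : ∀ U : X.affineOpens,
    (L.val.obj (op U.1)) ≃ₗ[Γ(X, U.1)] ↥(⋀[Γ(X, U.1)]^r ((Omega.conormal ι').val.obj (op U.1))))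

/-- The generator of the top exterior power of the conormal sheaf. -/
def lgen (hW : IsAffineOpen W) {f : Fin r → Γ(P, W)} (hf : IsFr ι' f) : Γ(L, ι' ⁻¹ᵁ W) :=
  (φ ⟨ι' ⁻¹ᵁ W, hW.preimage ι'⟩).symm (exteriorPower.ιMulti _ r (cn hW hf))

variable (hφ : ∀ (U V : X.affineOpens) (h : V.1 ≤ U.1) (e : Fin r → (Omega.conormal ι').val.obj (op U.1)),
    L.val.map (homOfLE h).op ((φ U).symm (exteriorPower.ιMulti _ r e)) =
      (φ V).symm (exteriorPower.ιMulti _ r (fun j => (Omega.conormal ι').val.map (homOfLE h).op (e j))))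

include hφ in
theorem mres_lgen (hW : IsAffineOpen W) {f : Fin r → Γ(P, W)} (hf : IsFr ι' f) {W' : P.Opens}
    (hW' : IsAffineOpen W') (h : W' ≤ W) :
    mres L (ι'.preimage_mono h) (lgen φ hW hf) = lgen φ hW' (hf.restrict hW hW' h) := by
  refine (hφ ⟨ι' ⁻¹ᵁ W, hW.preimage ι'⟩ ⟨ι' ⁻¹ᵁ W', hW'.preimage ι'⟩ (ι'.preimage_mono h) (cn hW hf)).trans ?_
  unfold lgen
  congr 2
  funext j
  exact mres_cn hW hf hW' h j

/-- The basis of the conormal sections. -/
def cnBasis (hW : IsAffineOpen W) {f : Fin r → Γ(P, W)} (hf : IsFr ι' f) (T : X.affineOpens)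
    (hT : T.1 ≤ ι' ⁻¹ᵁ W) : Module.Basis (Fin r) Γ(X, T.1) Γ(Omega.conormal ι', T.1) :=
  Module.Basis.ofEquivFun (LinearEquiv.ofBijective
    (Fintype.linearCombination Γ(X, T.1) (fun i => mres (Omega.conormal ι') hT (cn hW hf i)))
    (bijective_cn hW hf T hT)).symm

theorem cnBasis_apply (hW : IsAffineOpen W) {f : Fin r → Γ(P, W)} (hf : IsFr ι' f) (T : X.affineOpens)
    (hT : T.1 ≤ ι' ⁻¹ᵁ W) (i : Fin r) : cnBasis hW hf T hT i = mres (Omega.conormal ι') hT (cn hW hf i) := by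
  classical
  rw [cnBasis, Module.Basis.coe_ofEquivFun]
  show (LinearEquiv.ofBijective _ _).symm.symm (Pi.single i 1) = _
  rw [LinearEquiv.symm_symm, LinearEquiv.ofBijective_apply, Fintype.linearCombination_apply_single, one_smul]

include hφ in
theorem isGen_lgen (hW : IsAffineOpen W) {f : Fin r → Γ(P, W)} (hf : IsFr ι' f) :
    IsGen L (ι' ⁻¹ᵁ W) (lgen φ hW hf) := by
  refine TensorGen.isGen_of_affine fun T hT => ?_
  have e : mres L hT (lgen φ hW hf) = (φ T).symm (exteriorPower.ιMulti _ r (cnBasis hW hf T hT)) := by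
    refine (hφ ⟨ι' ⁻¹ᵁ W, hW.preimage ι'⟩ T hT (cn hW hf)).trans ?_
    congr 2
    funext j
    exact (cnBasis_apply hW hf T hT j).symm
  rw [e]
  have : (fun b : Γ(X, T.1) => b • (φ T).symm (exteriorPower.ιMulti _ r (cnBasis hW hf T hT))) =
      (φ T).symm ∘ fun b => b • exteriorPower.ιMulti Γ(X, T.1) r (cnBasis hW hf T hT) :=
    funext fun b => (map_smul _ _ _).symm
  rw [this]
  exact (φ T).symm.bijective.comp (TensorGen.bijective_smul_ιMulti _)

theorem lgen_change (hW : IsAffineOpen W) {f g : Fin r → Γ(P, W)} (hf : IsFr ι' f) (hg : IsFr ι' g)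
    (m : (Fin r → Γ(P, W)) →ₗ[Γ(P, W)] (Fin r → Γ(P, W))) (hm : pv f ∘ₗ m = pv g) :
    lgen φ hW hg = ι'.app W (LinearMap.det m) • lgen φ hW hf := by
  let T : X.affineOpens := ⟨ι' ⁻¹ᵁ W, hW.preimage ι'⟩
  let b := cnBasis hW hf T le_rfl
  have hb : ∀ i, b i = cn hW hf i := fun i => (cnBasis_apply hW hf T le_rfl i).trans (InvExt.mres_self _ _)
  have key : exteriorPower.ιMulti Γ(X, T.1) r (cn hW hg : Fin r → Γ(Omega.conormal ι', T.1)) =
      (ι'.app W (LinearMap.det m) : Γ(X, T.1)) • exteriorPower.ιMulti Γ(X, T.1) r b := by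
    refine (TensorGen.ιMulti_eq_det_smul b (cn hW hg)).trans ?_
    congr 1
    rw [Module.Basis.det_apply, ← LinearMap.det_toMatrix', RingHom.map_det]
    congr 1
    ext j i
    rw [Module.Basis.toMatrix_apply, cn_change hW hf hg m hm i]
    simp only [← hb, map_sum, map_smul, Module.Basis.repr_self]
    simp [Finsupp.single_apply, LinearMap.toMatrix'_apply, Pi.basisFun_apply]
  rw [show (b : Fin r → Γ(Omega.conormal ι', T.1)) = cn hW hf from funext hb] at key
  exact (congrArg (φ T).symm key).trans ((φ T).symm.map_smul (ι'.app W (LinearMap.det m)) _)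

end Gen

end GrothLib.FundIso27
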