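import Groth.Agent.Lib.FundIso27.Frame
import Groth.Agent.Lib.ExtTilde20.Coh
import Groth.Agent.Lib.Cube.Pic
import Groth.Agent.Lib.OX.TensorAssoc
import Mathlib.CategoryTheory.Adjunction.FullyFaithful

/-!
# The fundamental local isomorphism, globalised
-/

set_option autoImplicit false
set_option maxHeartbeats 1600000
set_option linter.style.haveILetI false
set_option backward.isDefEq.respectTransparency false

universe u

open CategoryTheory CategoryTheory.Limits AlgebraicGeometry Opposite TopologicalSpace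
open GrothLib.InvExt (mres fres IsGen)
open GrothLib.VA (tm)

noncomputable section

namespace GrothLib.FundIso27

section General

variable {X : Scheme.{u}} {A B : X.Modules}

theorem isIso_of_bijective_basis {I : Type u} {C : I → X.Opens} (hC : Opens.IsBasis (Set.range C)) (f : A ⟶ B)
    (h : ∀ i, Function.Bijective (f.app (C i))) : IsIso f := by
  obtain ⟨e, he⟩ := AffHom.exists_iso_basis hC
    (fun i => LinearEquiv.ofBijective (appL f (C i)) (h i)) (fun i j hij m => (app_mres f hij m).symm)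
  rw [AffHom.hom_ext_basis hC (f := f) (g := e.hom) fun i m => (he i m).symm]
  infer_instance

theorem isEquivalence_tensor {M : X.Modules} (hM : PicF.IsInvertible M) :
    ((DCoh.tensorBi (X := X)).flip.obj M).IsEquivalence := by
  obtain ⟨c, ⟨e⟩⟩ := Ample.exists_cocycle hM
  let N := (Cube.inv c).twist 1
  have hN : PicF.IsInvertible N := (Cube.inv c).isInvertible_twist 1
  have h1 : Cube.clsMod (Ample.isInvertible_tensorMod hN hM) = 1 := by
    rw [Cube.clsMod_tensorMod hN hM, Cube.clsMod_eq hN (Iso.refl _), Cube.clsMod_eq hM e, ← Cube.cls_prod]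
    exact Quotient.sound (Cube.eqv_prod_inv c)
  have h2 : Cube.clsMod (Ample.isInvertible_tensorMod hM hN) = 1 := by
    rw [Cube.clsMod_tensorMod hM hN, mul_comm, ← Cube.clsMod_tensorMod hN hM]; exact h1
  obtain ⟨a⟩ := (Cube.clsMod_eq_one_iff _).1 h1
  obtain ⟨b⟩ := (Cube.clsMod_eq_one_iff _).1 h2
  let T := DCoh.tensorBi (X := X)
  let u₁ : 𝟭 X.Modules ≅ T.obj M ⋙ T.obj N :=
    OX.tensorUnitNatIso.symm ≪≫ T.mapIso a.symm ≪≫ (OX.tensorAssocNatIso.app N).app M
  let u₂ : T.obj N ⋙ T.obj M ≅ 𝟭 X.Modules :=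
    ((OX.tensorAssocNatIso.app M).app N).symm ≪≫ T.mapIso b ≪≫ OX.tensorUnitNatIso
  haveI : (T.obj M).IsEquivalence :=
    (CategoryTheory.Equivalence.mk (T.obj M) (T.obj N) u₁ u₂).isEquivalence_functor
  exact Functor.isEquivalence_of_iso ((OX.tensorBraiding (X := X)).app M).symm

theorem nonempty_sheafHom_tensor_iso {M : X.Modules} (hM : PicF.IsInvertible M)
    [ModSite.HasSheafHom (O := X.sheaf) M] (A : X.Modules) :
    Nonempty ((ModSite.sheafHom (O := X.sheaf) M).obj (CohB1.tensorMod A M) ≅ A) := by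
  haveI := isEquivalence_tensor hM
  let adj : (DCoh.tensorBi (X := X)).flip.obj M ⊣ homM M := ModSite.sheafHomAdj (O := X.sheaf) M
  exact ⟨(asIso (adj.unit.app A)).symm⟩

end General

variable {P X : Scheme.{u}} [IsLocallyNoetherian P] (ι' : X ⟶ P) [IsClosedImmersion ι'] {r : ℕ}

/-- The direct image of the structure sheaf. -/
abbrev OZ : P.Modules := (Scheme.Modules.pushforward ι').obj (Coh.structureModule X)

/-- The affine opens carrying a frame, or missing the subscheme. -/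
abbrev Ix (r : ℕ) : Type u :=
  {W : P.affineOpens // (∃ f : Fin r → Γ(P, W.1), IsFr ι' f) ∨ ι' ⁻¹ᵁ W.1 = ⊥}

theorem exists_frame_nhd (hι : RegImm.IsRegularImmersionOfCodim RegImm.Kind.regular r ι') (z : X) (O : P.Opens)
    (hz : ι' z ∈ O) : ∃ W : P.affineOpens, ι' z ∈ W.1 ∧ W.1 ≤ O ∧ ∃ f : Fin r → Γ(P, W.1), IsFr ι' f := by
  obtain ⟨U, hzU, -, rs, hlen, hreg, hker⟩ := hι.2 z
  subst hlen
  obtain ⟨_, ⟨W, hW, rfl⟩, hzW, hle⟩ := P.isBasis_affineOpens.exists_subset_of_mem_open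
    (show ι' z ∈ ((O ⊓ U.1 : P.Opens) : Set P) from ⟨hz, hzU⟩) (O ⊓ U.1 : P.Opens).2
  have hU : IsFr ι' (fun i : Fin rs.length => rs.get i) := by
    refine ⟨by rw [List.ofFn_get]; exact hreg.toIsWeaklyRegular, hker.trans ?_⟩
    rw [Ideal.ofList]
    congr 1
    ext a
    exact List.mem_iff_get.trans (by simp)
  exact ⟨⟨W, hW⟩, hzW, hle.trans inf_le_left, _, hU.restrict U.2 hW (hle.trans inf_le_right)⟩

theorem isBasis_Ix (hι : RegImm.IsRegularImmersionOfCodim RegImm.Kind.regular r ι') :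
    Opens.IsBasis (Set.range fun W : Ix ι' r => W.1.1) := by
  rw [Opens.isBasis_iff_nbhd]
  intro O x hx
  by_cases h : x ∈ Set.range ι'
  · obtain ⟨z, rfl⟩ := h
    obtain ⟨W, hzW, hWO, hW⟩ := exists_frame_nhd ι' hι z O hx
    exact ⟨W.1, ⟨⟨W, Or.inl hW⟩, rfl⟩, hzW, hWO⟩
  · let C : P.Opens := ⟨(Set.range ι')ᶜ, ι'.isClosedEmbedding.isClosed_range.isOpen_compl⟩
    obtain ⟨_, ⟨W, hW, rfl⟩, hxW, hle⟩ := P.isBasis_affineOpens.exists_subset_of_mem_open
      (show x ∈ ((O ⊓ C : P.Opens) : Set P) from ⟨hx, h⟩) (O ⊓ C : P.Opens).2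
    have hWC : W ≤ C := hle.trans inf_le_right
    exact ⟨W, ⟨⟨⟨W, hW⟩, Or.inr (le_antisymm (fun z hz => ((hWC hz) ⟨z, rfl⟩).elim) bot_le)⟩, rfl⟩, hxW,
      hle.trans inf_le_left⟩

theorem isBasis_preimage (hι : RegImm.IsRegularImmersionOfCodim RegImm.Kind.regular r ι') :
    Opens.IsBasis (Set.range fun W : {W : P.affineOpens // ∃ f : Fin r → Γ(P, W.1), IsFr ι' f} => ι' ⁻¹ᵁ W.1.1) := by
  rw [Opens.isBasis_iff_nbhd]
  intro V z hz
  obtain ⟨O, hO, hOV⟩ := ι'.isClosedEmbedding.isInducing.isOpen_iff.1 V.2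
  obtain ⟨W, hzW, hWO, hW⟩ := exists_frame_nhd ι' hι z ⟨O, hO⟩ (by
    show z ∈ ι' ⁻¹' O; rw [hOV]; exact hz)
  refine ⟨_, ⟨⟨W, hW⟩, rfl⟩, hzW, fun y hy => ?_⟩
  have : y ∈ ι' ⁻¹' O := hWO hy
  rwa [hOV] at this

variable [ModSite.HasSheafHom (O := P.sheaf) (OZ ι')] [HasInjectiveResolutions P.Modules]

/-- The Ext sheaf. -/
abbrev eSh (F : P.Modules) (r : ℕ) : P.Modules := ((homM (OZ ι')).rightDerived r).obj F

variable (F : P.Modules) [F.IsQuasicoherent]

theorem subsingleton_eSh {W : P.Opens} (hW : IsAffineOpen W) (hb : ι' ⁻¹ᵁ W = ⊥) :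
    Subsingleton Γ(eSh ι' F r, W) := by
  haveI : IsNoetherianRing Γ(P, W) := IsLocallyNoetherian.component_noetherian ⟨W, hW⟩
  have hM := QCoh.pushUnit_isCoh ι'
  haveI : (OZ ι').IsQuasicoherent := hM.1
  haveI : Module.Finite Γ(P, W) Γ(OZ ι', W) := QCoh.moduleFinite_of_isFiniteType _ hM.2 hW
  haveI : Subsingleton Γ(OZ ι', W) := by
    change Subsingleton Γ(Coh.structureModule X, ι' ⁻¹ᵁ W)
    rw [hb]
    exact Cohom.subsingleton_sections_bot (Coh.toAb (Coh.structureModule X))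
  have hz : IsZero (ExtTilde20.secMod (U := W) (OZ ι')) :=
    haveI : Subsingleton (ExtTilde20.secMod (U := W) (OZ ι')) := inferInstanceAs (Subsingleton Γ(OZ ι', W))
    ModuleCat.isZero_of_subsingleton _
  have h := isZero_derived_qcoh hW (M := OZ ι') F r ⟨fun a b => by
    rw [← Abelian.Ext.mk₀_id_comp a, ← Abelian.Ext.mk₀_id_comp b, hz.eq_of_src (𝟙 _) 0]
    simp⟩
  haveI : IsIso ((Rres hW).map (0 : eSh ι' F r ⟶ eSh ι' F r)) := h.isIso h _
  have hb := app_bijective_of_isIso_restrict hW (0 : eSh ι' F r ⟶ eSh ι' F r) this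
  exact ⟨fun a b => hb.1 rfl⟩

theorem exists_kcls {W : P.Opens} (hW : IsAffineOpen W) {f : Fin r → Γ(P, W)} (hf : IsFr ι' f) :
    haveI := UnitsThick26.epi_unitToPush ι'
    Function.Surjective (fun s : Γ(F, W) => kcls hW (hf.isLFrame hW).toIsRFrame s) ∧
      ∀ s : Γ(F, W), kcls hW (hf.isLFrame hW).toIsRFrame s = 0 ↔
        s ∈ (Ideal.span (Set.range f) • ⊤ : Submodule Γ(P, W) Γ(F, W)) := by
  haveI : IsNoetherianRing Γ(P, W) := IsLocallyNoetherian.component_noetherian ⟨W, hW⟩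
  haveI := UnitsThick26.epi_unitToPush ι'
  haveI : (OZ ι').IsQuasicoherent := (QCoh.pushUnit_isCoh ι').1
  exact kcls_qcoh hW (hf.isLFrame hW) F

theorem killed_eSh (hι : RegImm.IsRegularImmersionOfCodim RegImm.Kind.regular r ι') :
    ClSub.KilledByIdeal ι'.ker (eSh ι' F r) := by
  intro U a ha m
  haveI := UnitsThick26.epi_unitToPush ι'
  refine Ample.meq_of_cover (eSh ι' F r) (fun W : {W : Ix ι' r // W.1.1 ≤ U.1} => W.1.1.1) (fun W => W.2)
    (fun x hx => ?_) fun W => ?_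
  · obtain ⟨_, ⟨W, rfl⟩, hxW, hle⟩ := Opens.isBasis_iff_nbhd.1 (isBasis_Ix ι' hι) hx
    exact Opens.mem_iSup.mpr ⟨⟨W, hle⟩, hxW⟩
  obtain ⟨⟨⟨W, hW⟩, hWf⟩, hle⟩ := W
  show mres (eSh ι' F r) hle (a • m) = mres (eSh ι' F r) hle 0
  refine ((InvExt.mres_smul (eSh ι' F r) hle a m).trans ?_).trans (map_zero _).symm
  rcases hWf with ⟨f, hf⟩ | hb
  · have ha' : fres P hle a ∈ Ideal.span (Set.range f) := by
      rw [← hf.ker, ← ι'.ker_apply ⟨W, hW⟩, ← ι'.ker.map_ideal (U := ⟨W, hW⟩) (V := U) hle]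
      exact Ideal.mem_map_of_mem _ ha
    obtain ⟨hs, hk⟩ := exists_kcls ι' F hW hf
    obtain ⟨s, hs⟩ := hs (mres (eSh ι' F r) hle m)
    rw [← hs]
    refine (kcls_smul hW (hf.isLFrame hW).toIsRFrame (fres P hle a) s).symm.trans ?_
    exact (hk _).2 (Submodule.smul_mem_smul ha' trivial)
  · haveI := subsingleton_eSh (r := r) ι' F hW hb
    exact Subsingleton.elim _ _

theorem isIso_unit_eSh (hι : RegImm.IsRegularImmersionOfCodim RegImm.Kind.regular r ι') :
    IsIso ((Scheme.Modules.pullbackPushforwardAdjunction ι').unit.app (eSh ι' F r)) := by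
  haveI : HasInjectiveResolutions (ModSite.Mod P.sheaf) := ‹HasInjectiveResolutions P.Modules›
  haveI : (eSh ι' F r).IsQuasicoherent :=
    ExtTilde20.isQCoh_extSh (OZ ι') F (QCoh.pushUnit_isCoh ι') ‹_› r
  exact QCoh.isIso_unit_of_killed ι' _ (killed_eSh ι' F hι)

theorem surjective_pullSec {W : P.Opens} (hW : IsAffineOpen W) :
    Function.Surjective (QCoh.pullSec ι' F (le_refl (ι' ⁻¹ᵁ W))) := by
  letI : Algebra Γ(P, W) Γ(X, ι' ⁻¹ᵁ W) := (ι'.appLE W (ι' ⁻¹ᵁ W) le_rfl).hom.toAlgebra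
  intro y
  obtain ⟨z, rfl⟩ := (QCoh.bijective_sectionsMap ι' F (le_refl (ι' ⁻¹ᵁ W)) rfl hW (hW.preimage ι')).2 y
  induction z using TensorProduct.induction_on with
  | zero => exact ⟨0, by rw [map_zero, map_zero]⟩
  | add a b ha hb =>
    obtain ⟨a', ha⟩ := ha
    obtain ⟨b', hb⟩ := hb
    exact ⟨a' + b', by rw [map_add, map_add, ha, hb]⟩
  | tmul b s =>
    obtain ⟨a, rfl⟩ := ι'.app_surjective W hW b
    refine ⟨a • s, ?_⟩
    rw [QCoh.sectionsMap_tmul, QCoh.pullSec_smul, Scheme.Hom.appLE_eq_app]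

variable {L : X.Modules} (φ : ∀ U : X.affineOpens,
    (L.val.obj (op U.1)) ≃ₗ[Γ(X, U.1)] ↥(⋀[Γ(X, U.1)]^r ((Omega.conormal ι').val.obj (op U.1))))

/-- The target. -/
abbrev tgt (L : X.Modules) (r : ℕ) : X.Modules :=
  CohB1.tensorMod ((Scheme.Modules.pullback ι').obj (eSh ι' F r)) L

/-- The comparison on an affine open with a frame. -/
def psiF {W : P.Opens} (hW : IsAffineOpen W) {f : Fin r → Γ(P, W)} (hf : IsFr ι' f) :
    Γ(F, W) →ₗ[Γ(P, W)] Γ((Scheme.Modules.pushforward ι').obj (tgt ι' F L r), W) :=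
  haveI := UnitsThick26.epi_unitToPush ι'
  { toFun := fun s => tm (QCoh.pullSec ι' (eSh ι' F r) (le_refl (ι' ⁻¹ᵁ W))
      (kcls hW (hf.isLFrame hW).toIsRFrame s)) (lgen φ hW hf)
    map_add' := fun s s' => by
      rw [kcls_add, map_add, VA.tm_add_left]
    map_smul' := fun a s => by
      rw [kcls_smul, QCoh.pullSec_smul, Scheme.Hom.appLE_eq_app, VA.tm_smul_left]
      rfl }

theorem psiF_indep {W : P.Opens} (hW : IsAffineOpen W) {f g : Fin r → Γ(P, W)} (hf : IsFr ι' f) (hg : IsFr ι' g)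
    (s : Γ(F, W)) : psiF ι' F φ hW hg s = psiF ι' F φ hW hf s := by
  haveI := UnitsThick26.epi_unitToPush ι'
  obtain ⟨m, hm⟩ := exists_change hf hg
  show tm (QCoh.pullSec ι' (eSh ι' F r) (le_refl _) (kcls hW (hg.isLFrame hW).toIsRFrame s)) (lgen φ hW hg) =
    tm (QCoh.pullSec ι' (eSh ι' F r) (le_refl _) (kcls hW (hf.isLFrame hW).toIsRFrame s)) (lgen φ hW hf)
  rw [← kcls_frame' hW m hm (hf.isLFrame hW).toIsRFrame (hg.isLFrame hW).toIsRFrame, QCoh.pullSec_smul,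
    Scheme.Hom.appLE_eq_app, lgen_change φ hW hf hg m hm, VA.tm_smul_right, VA.tm_smul_left]

variable (hφ : ∀ (U V : X.affineOpens) (h : V.1 ≤ U.1) (e : Fin r → (Omega.conormal ι').val.obj (op U.1)),
    L.val.map (homOfLE h).op ((φ U).symm (exteriorPower.ιMulti _ r e)) =
      (φ V).symm (exteriorPower.ιMulti _ r (fun j => (Omega.conormal ι').val.map (homOfLE h).op (e j))))

include hφ in
theorem psiF_res {W W' : P.Opens} (hW : IsAffineOpen W) (hW' : IsAffineOpen W') (h : W' ≤ W)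
    {f : Fin r → Γ(P, W)} (hf : IsFr ι' f) (s : Γ(F, W)) :
    mres ((Scheme.Modules.pushforward ι').obj (tgt ι' F L r)) h (psiF ι' F φ hW hf s) =
      psiF ι' F φ hW' (hf.restrict hW hW' h) (mres F h s) := by
  haveI := UnitsThick26.epi_unitToPush ι'
  show mres (tgt ι' F L r) (ι'.preimage_mono h) (tm (QCoh.pullSec ι' (eSh ι' F r) (le_refl _)
      (kcls hW (hf.isLFrame hW).toIsRFrame s)) (lgen φ hW hf)) =
    tm (QCoh.pullSec ι' (eSh ι' F r) (le_refl _)
      (kcls hW' ((hf.restrict hW hW' h).isLFrame hW').toIsRFrame (mres F h s)))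
      (lgen φ hW' (hf.restrict hW hW' h))
  rw [VA.mres_tm, mres_lgen φ hφ hW hf hW' h,
    kcls_restrict hW hW' h (hf.isLFrame hW).toIsRFrame ((hf.restrict hW hW' h).isLFrame hW').toIsRFrame]
  exact congrArg (fun z => tm z _) (pullSec_mres ι' _ _ le_rfl h (ι'.preimage_mono h) _)

include hφ in
theorem exists_transpose (hι : RegImm.IsRegularImmersionOfCodim RegImm.Kind.regular r ι') :
    ∃ Φ : (Scheme.Modules.pullback ι').obj F ⟶ tgt ι' F L r,
      ∀ (W : P.Opens) (hW : IsAffineOpen W) (f : Fin r → Γ(P, W)) (hf : IsFr ι' f) (s : Γ(F, W)),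
        Φ.app (ι' ⁻¹ᵁ W) (QCoh.pullSec ι' F (le_refl _) s) = psiF ι' F φ hW hf s := by
  classical
  let G := (Scheme.Modules.pushforward ι').obj (tgt ι' F L r)
  let ψ : ∀ i : Ix ι' r, Γ(F, i.1.1) →ₗ[Γ(P, i.1.1)] Γ(G, i.1.1) := fun i =>
    if h : ∃ f : Fin r → Γ(P, i.1.1), IsFr ι' f then psiF ι' F φ i.1.2 h.choose_spec else 0
  obtain ⟨Φ₀, hΦ₀⟩ := AffHom.exists_hom_basis (isBasis_Ix ι' hι) ψ (fun i j hji s => by
    show mres G hji (ψ i s) = ψ j (mres F hji s)
    by_cases h : ∃ f : Fin r → Γ(P, i.1.1), IsFr ι' f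
    · have h' : ∃ f : Fin r → Γ(P, j.1.1), IsFr ι' f := ⟨_, h.choose_spec.restrict i.1.2 j.1.2 hji⟩
      simp only [ψ, dif_pos h, dif_pos h']
      rw [psiF_res ι' F φ hφ i.1.2 j.1.2 hji h.choose_spec]
      exact psiF_indep ι' F φ j.1.2 _ _ _
    · have hb : ι' ⁻¹ᵁ j.1.1 = ⊥ :=
        le_bot_iff.1 ((ι'.preimage_mono hji).trans (i.2.resolve_left h).le)
      haveI : Subsingleton Γ(G, j.1.1) := by
        change Subsingleton Γ(tgt ι' F L r, ι' ⁻¹ᵁ j.1.1)
        rw [hb]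
        exact Cohom.subsingleton_sections_bot (Coh.toAb (tgt ι' F L r))
      exact Subsingleton.elim _ _)
  let adj := Scheme.Modules.pullbackPushforwardAdjunction ι'
  let Φ := (adj.homEquiv F (tgt ι' F L r)).symm Φ₀
  refine ⟨Φ, fun W hW f hf s => ?_⟩
  have h := hΦ₀ ⟨⟨W, hW⟩, Or.inl ⟨f, hf⟩⟩ s
  simp only [ψ, dif_pos (⟨f, hf⟩ : ∃ f : Fin r → Γ(P, W), IsFr ι' f)] at h
  rw [psiF_indep ι' F φ hW hf] at h
  refine Eq.trans ?_ h
  have e : adj.unit.app F ≫ (Scheme.Modules.pushforward ι').map Φ = Φ₀ := by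
    exact (adj.homEquiv_unit F (tgt ι' F L r) Φ).symm.trans (Equiv.apply_symm_apply _ _)
  rw [← e, comp_app']
  exact congrArg (Φ.app (ι' ⁻¹ᵁ W)) (InvExt.mres_self _ _)

include hφ in
theorem nonempty_pullback_iso (hι : RegImm.IsRegularImmersionOfCodim RegImm.Kind.regular r ι') :
    Nonempty ((Scheme.Modules.pullback ι').obj F ≅ tgt ι' F L r) := by
  haveI := UnitsThick26.epi_unitToPush ι'
  haveI := isIso_unit_eSh (r := r) ι' F hι
  obtain ⟨Φ, hΦ⟩ := exists_transpose ι' F φ hφ hι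
  have : IsIso Φ := by
    refine isIso_of_bijective_basis (isBasis_preimage ι' hι) Φ fun W => ?_
    obtain ⟨⟨W, hW⟩, f, hf⟩ := W
    show Function.Bijective (Φ.app (ι' ⁻¹ᵁ W))
    obtain ⟨hs, hk⟩ := exists_kcls ι' F hW hf
    have hl := isGen_lgen φ hφ hW hf
    have ht := TensorGen.bijective_tm ((Scheme.Modules.pullback ι').obj (eSh ι' F r)) L hl
    have hp : Function.Bijective (QCoh.pullSec ι' (eSh ι' F r) (le_refl (ι' ⁻¹ᵁ W))) := by
      have hu := (ConcreteCategory.isIso_iff_bijective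
        (((Scheme.Modules.pullbackPushforwardAdjunction ι').unit.app (eSh ι' F r)).app W)).1 inferInstance
      rw [show (⇑(QCoh.pullSec ι' (eSh ι' F r) (le_refl (ι' ⁻¹ᵁ W)))) =
        ((Scheme.Modules.pullbackPushforwardAdjunction ι').unit.app (eSh ι' F r)).app W from
          funext fun s => InvExt.mres_self _ _]
      exact hu
    refine ⟨(injective_iff_map_eq_zero _).2 fun z hz => ?_, fun y => ?_⟩
    · obtain ⟨s, rfl⟩ := surjective_pullSec ι' F hW z
      rw [hΦ W hW f hf] at hz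
      have h0 : kcls hW (hf.isLFrame hW).toIsRFrame s = 0 := by
        refine hp.1 (ht.1 ?_)
        refine hz.trans ?_
        rw [map_zero]
        exact ((TensorGen.tmEquiv ((Scheme.Modules.pullback ι').obj (eSh ι' F r)) L hl).map_zero).symm
      have hmem := (hk s).1 h0
      clear hz h0
      induction hmem using Submodule.smul_induction_on' with
      | smul a ha t _ =>
        rw [← hf.ker, RingHom.mem_ker] at ha
        rw [QCoh.pullSec_smul, Scheme.Hom.appLE_eq_app, ha, zero_smul]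
      | add a _ b _ ha hb => rw [map_add, ha, hb, add_zero]
    · obtain ⟨z, rfl⟩ := ht.2 y
      obtain ⟨e, rfl⟩ := hp.2 z
      obtain ⟨s, rfl⟩ := hs e
      exact ⟨QCoh.pullSec ι' F (le_refl _) s, hΦ W hW f hf s⟩
  exact ⟨@asIso _ _ _ _ Φ this⟩

include hφ in
theorem isInvertible_L (hι : RegImm.IsRegularImmersionOfCodim RegImm.Kind.regular r ι') : PicF.IsInvertible L := by
  refine InvExt.isInvertible_of_gens fun z => ?_
  obtain ⟨W, hzW, -, f, hf⟩ := exists_frame_nhd ι' hι z ⊤ trivial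
  exact ⟨_, _, hzW, isGen_lgen φ hφ W.2 hf⟩

include hφ in
/-- The fundamental local isomorphism. -/
theorem nonempty_eSh_iso (hι : RegImm.IsRegularImmersionOfCodim RegImm.Kind.regular r ι')
    [ModSite.HasSheafHom (O := X.sheaf) L] :
    Nonempty (eSh ι' F r ≅ (Scheme.Modules.pushforward ι').obj
      ((ModSite.sheafHom (O := X.sheaf) L).obj ((Scheme.Modules.pullback ι').obj F))) := by
  haveI := isIso_unit_eSh (r := r) ι' F hι
  obtain ⟨e⟩ := nonempty_pullback_iso ι' F φ hφ hι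
  obtain ⟨d⟩ := nonempty_sheafHom_tensor_iso (isInvertible_L ι' φ hφ hι)
    ((Scheme.Modules.pullback ι').obj (eSh ι' F r))
  exact ⟨asIso ((Scheme.Modules.pullbackPushforwardAdjunction ι').unit.app (eSh ι' F r)) ≪≫
    (Scheme.Modules.pushforward ι').mapIso (d.symm ≪≫ ((ModSite.sheafHom (O := X.sheaf) L).mapIso e).symm)⟩

end GrothLib.FundIso27
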