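import Groth.Agent.Lib.ProjFormula.Map
import Groth.Agent.Lib.OX.Tensor
import Groth.Prelude.Def_ModSite
import Groth.Prelude.Def_ModSite2

/-!
# Evaluation of the internal Hom out of a cyclic module
-/

set_option autoImplicit false
set_option maxHeartbeats 400000
set_option linter.style.haveILetI false
set_option backward.isDefEq.respectTransparency false

universe u

open CategoryTheory CategoryTheory.Limits MonoidalCategory AlgebraicGeometry Opposite TopologicalSpace

noncomputable section

namespace GrothLib.FundIso27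

open GrothLib.OX GrothLib.ProjFormula

variable {P : Scheme.{u}}

/-- `Y ⊗ -`. -/
abbrev tn (Y : P.Modules) : P.Modules ⥤ P.Modules := (DCoh.tensorBi (X := P)).obj Y

/-- The right unit law. -/
def unitR (Y : P.Modules) : (tn Y).obj (Coh.structureModule P) ≅ Y :=
  DCoh.shP.mapIso (show DCoh.toP.obj Y ⊗ DCoh.toP.obj (Coh.structureModule P) ≅ DCoh.toP.obj Y from
    ρ_ (DCoh.toP.obj Y)) ≪≫
    (asIso (PresheafOfModules.sheafificationAdjunction (R := P.ringCatSheaf) (𝟙 P.ringCatSheaf.obj)).counit).app Y

theorem unitR_tmulSec (Y : P.Modules) (U : P.Opens) (t : (DCoh.toP.obj Y).obj (op U)) (r : Γ(P, U)) :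
    (DCoh.toP.map (unitR Y).hom).app (op U) (tmulSec Y (Coh.structureModule P) U t r) =
      (r : P.presheaf.obj (op U)) • t := by
  let adj := PresheafOfModules.sheafificationAdjunction (R := P.ringCatSheaf) (𝟙 P.ringCatSheaf.obj)
  let l : DCoh.toP.obj Y ⊗ DCoh.toP.obj (Coh.structureModule P) ≅ DCoh.toP.obj Y := ρ_ (DCoh.toP.obj Y)
  have h1 : sheafUnit (DCoh.toP.obj Y ⊗ DCoh.toP.obj (Coh.structureModule P)) ≫
      DCoh.toP.map (unitR Y).hom = l.hom := by
    show _ ≫ DCoh.toP.map (DCoh.shP.map l.hom ≫ adj.counit.app Y) = _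
    rw [Functor.map_comp, ← Category.assoc, sheafUnit_natural, Category.assoc]
    exact (congrArg (l.hom ≫ ·) (adj.right_triangle_components Y)).trans (Category.comp_id _)
  exact congrArg (fun k => k.app (op U) (tsec _ _ U t r)) h1

theorem unitR_natural {Y Y' : P.Modules} (g : Y ⟶ Y') :
    ((DCoh.tensorBi (X := P)).map g).app (Coh.structureModule P) ≫ (unitR Y').hom = (unitR Y).hom ≫ g := by
  refine hom_ext_tmul fun U s t => ?_
  rw [Functor.map_comp, Functor.map_comp]
  show (DCoh.toP.map (unitR Y').hom).app (op U) ((DCoh.toP.map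
      (((DCoh.tensorBi (X := P)).map g).app (Coh.structureModule P))).app (op U) (tmulSec _ _ U s t)) =
    (DCoh.toP.map g).app (op U) ((DCoh.toP.map (unitR Y).hom).app (op U) (tmulSec _ _ U s t))
  rw [map_left_tmulSec]
  refine (unitR_tmulSec Y' U _ t).trans ?_
  refine Eq.trans ?_ (congrArg _ (unitR_tmulSec Y U s t).symm)
  exact (((DCoh.toP.map g).app (op U)).hom.map_smul _ _).symm

variable {M : P.Modules} [ModSite.HasSheafHom (O := P.sheaf) M] (q : Coh.structureModule P ⟶ M)

/-- `Hom(M, ·)`. -/
abbrev homM (M : P.Modules) [ModSite.HasSheafHom (O := P.sheaf) M] : P.Modules ⥤ P.Modules :=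
  ModSite.sheafHom (O := P.sheaf) M

instance additive_homM : (homM M).Additive := ModSite.sheafHom_additive P.sheaf M

/-- Evaluation at the generator. -/
def evM : homM M ⟶ 𝟭 P.Modules where
  app N := (unitR ((homM M).obj N)).inv ≫ (tn ((homM M).obj N)).map q ≫
    (ModSite.sheafHomAdj (O := P.sheaf) M).counit.app N
  naturality N N' h := by
    have h1 : (unitR ((homM M).obj N)).inv ≫ ((DCoh.tensorBi (X := P)).map ((homM M).map h)).app _ =
        (homM M).map h ≫ (unitR ((homM M).obj N')).inv := by
      rw [Iso.inv_comp_eq, ← Category.assoc, Iso.eq_comp_inv]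
      exact unitR_natural _
    rw [← Category.assoc, ← h1]
    simp only [Category.assoc, Functor.id_map]
    refine congrArg ((unitR ((homM M).obj N)).inv ≫ ·) ?_
    rw [← Category.assoc, ← ((DCoh.tensorBi (X := P)).map ((homM M).map h)).naturality q]
    exact (Category.assoc _ _ _).trans (congrArg ((tn ((homM M).obj N)).map q ≫ ·)
      ((ModSite.sheafHomAdj (O := P.sheaf) M).counit.naturality h))

theorem transpose_ev {Y N : P.Modules} (h : Y ⟶ (homM M).obj N) :
    h ≫ (evM q).app N =
      (unitR Y).inv ≫ (tn Y).map q ≫ (((ModSite.sheafHomAdj (O := P.sheaf) M).homEquiv Y N).symm h) := by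
  rw [Adjunction.homEquiv_counit]
  show h ≫ (unitR ((homM M).obj N)).inv ≫ (tn ((homM M).obj N)).map q ≫ _ =
    (unitR Y).inv ≫ (tn Y).map q ≫ ((DCoh.tensorBi (X := P)).map h).app M ≫ _
  have h1 : (unitR Y).inv ≫ ((DCoh.tensorBi (X := P)).map h).app _ = h ≫ (unitR ((homM M).obj N)).inv := by
    rw [Iso.inv_comp_eq, ← Category.assoc, Iso.eq_comp_inv]
    exact unitR_natural _
  rw [← reassoc_of% h1]
  refine congrArg ((unitR Y).inv ≫ ·) ?_
  rw [← Category.assoc, ← Category.assoc]
  exact congrArg (· ≫ _) (((DCoh.tensorBi (X := P)).map h).naturality q).symm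

instance epi_tn_map (Y : P.Modules) [Epi q] : Epi ((tn Y).map q) :=
  haveI : PreservesColimitsOfSize.{0, 0} (tn Y) := preservesColimitsOfSize_shrink.{0, u, 0, u} _
  inferInstance

instance mono_ev [Epi q] (N : P.Modules) : Mono ((evM q).app N) where
  right_cancellation {Y} h h' e := by
    rw [transpose_ev, transpose_ev, cancel_epi (unitR Y).inv, cancel_epi ((tn Y).map q)] at e
    exact ((ModSite.sheafHomAdj (O := P.sheaf) M).homEquiv Y N).symm.injective e

theorem isIso_ev [Epi q] (N : P.Modules)
    (hN : ∀ (W : P.Opens) (a : Γ(P, W)), q.app W a = 0 → ∀ z : Γ(N, W), a • z = 0) :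
    IsIso ((evM q).app N) := by
  haveI : PreservesFiniteColimits (tn N) :=
    haveI : PreservesColimitsOfSize.{0, 0} (tn N) := preservesColimitsOfSize_shrink.{0, u, 0, u} _
    inferInstance
  have hS : (ShortComplex.mk (kernel.ι q) q (kernel.condition q)).Exact := ShortComplex.exact_kernel q
  haveI : PreservesBinaryBiproducts (tn N) := preservesBinaryBiproducts_of_preservesBinaryCoproducts _
  haveI : (tn N).Additive := Functor.additive_of_preservesBinaryBiproducts _
  have hS' := hS.map_of_epi_of_preservesCokernel (tn N) ‹Epi q› inferInstance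
  have h0 : (tn N).map (kernel.ι q) ≫ (unitR N).hom = 0 := by
    refine hom_ext_tmul fun W s t => ?_
    rw [Functor.map_comp]
    show (DCoh.toP.map (unitR N).hom).app (op W)
      ((DCoh.toP.map ((tn N).map (kernel.ι q))).app (op W) (tmulSec _ _ W s t)) = _
    rw [map_right_tmulSec]
    refine (unitR_tmulSec N W s _).trans (Eq.trans (hN W _ ?_ s) ?_)
    · exact ConcreteCategory.congr_hom (congrArg (fun k : kernel q ⟶ M => (DCoh.toP.map k).app (op W))
        (kernel.condition q)) t
    · rw [Functor.map_zero]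
      rfl
  haveI : Epi ((ShortComplex.mk (kernel.ι q) q (kernel.condition q)).map (tn N)).g :=
    inferInstanceAs (Epi ((tn N).map q))
  let y := hS'.desc (unitR N).hom h0
  have hy : (tn N).map q ≫ y = (unitR N).hom := hS'.g_desc _ _
  haveI : Epi ((evM q).app N) := by
    refine (IsSplitEpi.mk' ⟨(ModSite.sheafHomAdj (O := P.sheaf) M).homEquiv N N y, ?_⟩).epi
    rw [transpose_ev, Equiv.symm_apply_apply]
    exact (congrArg ((unitR N).inv ≫ ·) hy).trans (Iso.inv_hom_id _)
  exact isIso_of_mono_of_epi _

end GrothLib.FundIso27
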