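import Groth.Agent.Lib.KoszulExt.Basic
import Groth.Agent.Lib.TensorGen.Det
import Mathlib.LinearAlgebra.ExteriorPower.Basis
import Mathlib.RingTheory.Flat.Basic
import Mathlib.RingTheory.Regular.Category
import Mathlib.RingTheory.Depth.Rees
import Mathlib.CategoryTheory.Abelian.Projective.Dimension
import Mathlib.Algebra.Category.ModuleCat.Projective
import Mathlib.Algebra.Homology.HomologicalComplex

/-!
# The Koszul complex of a tuple: functoriality, exactness, Ext
-/

set_option autoImplicit false
set_option linter.style.haveILetI false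

universe u

open CategoryTheory CategoryTheory.Limits TensorProduct Set

noncomputable section

namespace GrothLib.FundIso27

variable {A : Type u} [CommRing A] {c : ℕ}

/-- The linear form of a tuple. -/
def pv (f : Fin c → A) : Module.Dual A (Fin c → A) := Fintype.linearCombination A f

theorem pv_apply (f v : Fin c → A) : pv f v = ∑ i, v i * f i := by
  rw [pv, Fintype.linearCombination_apply]
  rfl

theorem pv_single (f : Fin c → A) (i : Fin c) : pv f (Pi.basisFun A (Fin c) i) = f i := by
  rw [pv_apply]
  simp [Pi.basisFun_apply, Pi.single_apply]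

/-- The `i`-th term. -/
abbrev KW (A : Type u) [CommRing A] (c i : ℕ) : Type u := ↥(⋀[A]^i (Fin c → A))

/-- The differential. -/
def kd (f : Fin c → A) (i : ℕ) : KW A c (i + 1) →ₗ[A] KW A c i where
  toFun x := ⟨CliffordAlgebra.contractLeft (pv f) x.1, (KoszulExt.contract_mem (pv f) x.2).2 i rfl⟩
  map_add' x y := Subtype.ext (map_add _ _ _)
  map_smul' a x := Subtype.ext (map_smul _ _ _)

theorem kd_ιMulti (f : Fin c → A) (i : ℕ) (v : Fin (i + 1) → (Fin c → A)) :
    kd f i (exteriorPower.ιMulti A (i + 1) v) = ∑ p : Fin (i + 1), ((-1 : A) ^ (p : ℕ) * pv f (v p)) •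
      exteriorPower.ιMulti A i (fun q => v (p.succAbove q)) := by
  refine Subtype.ext ?_
  rw [AddSubmonoidClass.coe_finset_sum]
  exact KoszulExt.contract_ιMulti (pv f) i v

theorem kd_kd (f : Fin c → A) (i : ℕ) : kd f i ∘ₗ kd f (i + 1) = 0 :=
  LinearMap.ext fun x => Subtype.ext (CliffordAlgebra.contractLeft_contractLeft (pv f) x.1)

theorem kd_exact (f : Fin c → A) (hf : RingTheory.Sequence.IsWeaklyRegular A (List.ofFn f)) (i : ℕ) :
    Function.Exact (kd f (i + 1)) (kd f i) := by
  intro x
  constructor
  · intro hx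
    obtain ⟨y, hy, e⟩ := KoszulExt.exists_contract_eq (Pi.basisFun A (Fin c)) (pv f)
      (by simpa only [pv_single] using hf) (Nat.le_add_left 1 i) x.2 (congrArg Subtype.val hx)
    exact ⟨⟨y, hy⟩, Subtype.ext e⟩
  · rintro ⟨y, rfl⟩
    exact LinearMap.congr_fun (kd_kd f i) y

theorem range_kd_zero (f : Fin c → A) :
    LinearMap.range ((exteriorPower.zeroEquiv A (Fin c → A)).toLinearMap ∘ₗ kd f 0) =
      (Ideal.span (range f) : Ideal A) := by
  refine le_antisymm ?_ ?_
  · rintro _ ⟨x, rfl⟩
    have hx : x ∈ Submodule.span A (range (exteriorPower.ιMulti A 1 (M := Fin c → A))) := by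
      rw [exteriorPower.ιMulti_span]; trivial
    induction hx using Submodule.span_induction with
    | mem y hy =>
      obtain ⟨v, rfl⟩ := hy
      rw [LinearMap.comp_apply, kd_ιMulti, map_sum]
      refine Submodule.sum_mem _ fun p _ => ?_
      rw [map_smul]
      refine Ideal.mul_mem_right _ _ (Ideal.mul_mem_left _ _ ?_)
      rw [pv_apply]
      exact Ideal.sum_mem _ fun j _ => Ideal.mul_mem_left _ _ (Ideal.subset_span ⟨j, rfl⟩)
    | zero => simp
    | add a b _ _ ha hb => rw [map_add]; exact add_mem ha hb
    | smul r a _ ha => rw [map_smul]; exact Submodule.smul_mem _ r ha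
  · rw [Ideal.span, Submodule.span_le]
    rintro _ ⟨j, rfl⟩
    refine ⟨exteriorPower.ιMulti A 1 (fun _ => Pi.basisFun A (Fin c) j), ?_⟩
    rw [LinearMap.comp_apply, kd_ιMulti, Fin.sum_univ_one, map_smul]
    simp [pv_single, pv_apply, Pi.single_apply, exteriorPower.zeroEquiv_ιMulti]

/-- The generator of the top term. -/
abbrev ktop (A : Type u) [CommRing A] (c : ℕ) : KW A c c := exteriorPower.ιMulti A c (Pi.basisFun A (Fin c))

theorem bijective_smul_ktop : Function.Bijective fun a : A => a • ktop A c :=
  TensorGen.bijective_smul_ιMulti (Pi.basisFun A (Fin c))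

/-- `⋀^c A^c ≅ A`. -/
def topEquiv : A ≃ₗ[A] KW A c c :=
  LinearEquiv.ofBijective (LinearMap.toSpanSingleton A _ (ktop A c)) bijective_smul_ktop

theorem topEquiv_one : topEquiv (1 : A) = ktop A c := one_smul A (ktop A c)

attribute [irreducible] topEquiv

theorem subsingleton_KW {i : ℕ} (h : c < i) : Subsingleton (KW A c i) := by
  haveI : IsEmpty (Set.powersetCard (Fin c) i) := ⟨fun s => by
    have h1 := s.2
    have h2 := Finset.card_le_univ s.1
    rw [Fintype.card_fin] at h2
    have h3 : s.1.card = i := h1
    omega⟩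
  exact ((Pi.basisFun A (Fin c)).exteriorPower i).repr.toEquiv.subsingleton

/-- Change of frame. -/
theorem kd_map (f g : Fin c → A) (m : (Fin c → A) →ₗ[A] (Fin c → A)) (h : pv f ∘ₗ m = pv g) (i : ℕ) :
    exteriorPower.map i m ∘ₗ kd g i = kd f i ∘ₗ exteriorPower.map (i + 1) m := by
  refine exteriorPower.linearMap_ext (AlternatingMap.ext fun v => ?_)
  show exteriorPower.map i m (kd g i (exteriorPower.ιMulti A (i + 1) v)) =
    kd f i (exteriorPower.map (i + 1) m (exteriorPower.ιMulti A (i + 1) v))
  rw [exteriorPower.map_apply_ιMulti, kd_ιMulti, kd_ιMulti, map_sum]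
  refine Finset.sum_congr rfl fun p _ => ?_
  rw [map_smul, exteriorPower.map_apply_ιMulti, ← h]
  rfl

theorem map_ktop (m : (Fin c → A) →ₗ[A] (Fin c → A)) :
    exteriorPower.map c m (ktop A c) = LinearMap.det m • ktop A c := by
  rw [exteriorPower.map_apply_ιMulti, TensorGen.ιMulti_eq_det_smul (Pi.basisFun A (Fin c))]
  congr 1
  show (Pi.basisFun A (Fin c)).det (m ∘ Pi.basisFun A (Fin c)) = _
  rw [Module.Basis.det_comp, Module.Basis.det_self, mul_one]

section Semi

variable {B : Type u} [CommRing B] (ρ : A →+* B) {E : Type u} [AddCommGroup E] [Module B E] {i : ℕ}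

/-- Restriction of vectors. -/
abbrev restV (v : Fin c → A) : Fin c → B := ρ ∘ v

theorem restV_basis (j : Fin c) : restV ρ (Pi.basisFun A (Fin c) j) = Pi.basisFun B (Fin c) j := by
  funext k
  simp [Pi.basisFun_apply, Pi.single_apply, apply_ite ρ]

theorem pv_restV (f v : Fin c → A) : pv (restV ρ f) (restV ρ v) = ρ (pv f v) := by
  simp [pv_apply]

theorem semi_ext {l l' : KW B c i →ₗ[B] E}
    (h : ∀ v : Fin i → (Fin c → A), l (exteriorPower.ιMulti B i (fun q => restV ρ (v q))) =
      l' (exteriorPower.ιMulti B i (fun q => restV ρ (v q)))) : l = l' := by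
  refine exteriorPower.linearMap_ext (Module.Basis.ext_alternating (Pi.basisFun B (Fin c)) fun v _ => ?_)
  have hv : (fun q => Pi.basisFun B (Fin c) (v q)) = fun q => restV ρ (Pi.basisFun A (Fin c) (v q)) :=
    funext fun q => (restV_basis ρ (v q)).symm
  show l (exteriorPower.ιMulti B i _) = l' (exteriorPower.ιMulti B i _)
  rw [hv]
  exact h _

/-- The linear extension of a semilinear map out of an exterior power. -/
def semiExt (η : KW A c i →ₛₗ[ρ] E) : KW B c i →ₗ[B] E :=
  ((Pi.basisFun B (Fin c)).exteriorPower i).constr B fun s => η ((Pi.basisFun A (Fin c)).exteriorPower i s)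

theorem semiExt_basis (η : KW A c i →ₛₗ[ρ] E) (σ : Fin i → Fin c) (hσ : Function.Injective σ) :
    semiExt ρ η (exteriorPower.ιMulti B i (fun q => Pi.basisFun B (Fin c) (σ q))) =
      η (exteriorPower.ιMulti A i (fun q => Pi.basisFun A (Fin c) (σ q))) := by
  classical
  let s : Set.powersetCard (Fin c) i := ⟨Finset.univ.image σ, by
    show (Finset.univ.image σ).card = i
    rw [Finset.card_image_of_injective _ hσ, Finset.card_univ, Fintype.card_fin]⟩
  let τ : Fin i ↪o Fin c := Set.powersetCard.ofFinEmbEquiv.symm s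
  have hmem : ∀ q, ∃ p, τ p = σ q := fun q => by
    have h0 : σ q ∈ (s : Finset (Fin c)) := Finset.mem_image_of_mem _ (Finset.mem_univ q)
    exact Set.powersetCard.mem_range_ofFinEmbEquiv_symm_iff_mem s (σ q) |>.2 h0
  choose p hp using hmem
  have hp' : Function.Injective p := fun a b h => hσ (by rw [← hp a, ← hp b, h])
  let π : Equiv.Perm (Fin i) := Equiv.ofBijective p (Finite.injective_iff_bijective.1 hp')
  have hB : (fun q => Pi.basisFun B (Fin c) (σ q)) = (Pi.basisFun B (Fin c) ∘ τ) ∘ π :=
    funext fun q => congrArg _ (hp q).symm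
  have hA : (fun q => Pi.basisFun A (Fin c) (σ q)) = (Pi.basisFun A (Fin c) ∘ τ) ∘ π :=
    funext fun q => congrArg _ (hp q).symm
  rw [hB, hA, AlternatingMap.map_perm, AlternatingMap.map_perm, Units.smul_def, Units.smul_def,
    map_zsmul, map_zsmul]
  congr 1
  have h1 := ((Pi.basisFun B (Fin c)).exteriorPower i).constr_basis B
    (fun s => η ((Pi.basisFun A (Fin c)).exteriorPower i s)) s
  rw [exteriorPower.coe_basis, exteriorPower.coe_basis] at h1
  simp only [semiExt, exteriorPower.coe_basis]
  exact h1

theorem semiExt_ιMulti (η : KW A c i →ₛₗ[ρ] E) (v : Fin i → (Fin c → A)) :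
    semiExt ρ η (exteriorPower.ιMulti B i (fun q => restV ρ (v q))) = η (exteriorPower.ιMulti A i v) := by
  letI : Module A E := Module.compHom E ρ
  let l : (Fin c → A) →ₗ[A] (Fin c → A) := LinearMap.id
  let ψ₁ : (Fin c → A) [⋀^Fin i]→ₗ[A] E :=
    { toFun := fun v => semiExt ρ η (exteriorPower.ιMulti B i (fun q => restV ρ (v q)))
      map_update_add' := fun v q x y => by
        classical
        rename_i inst
        have : ∀ z, (fun p => restV ρ (Function.update v q z p)) =
            Function.update (fun p => restV ρ (v p)) q (restV ρ z) := fun z => funext fun p => by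
          by_cases hpq : p = q <;> simp [hpq]
        simp only [this]
        rw [show restV ρ (x + y) = restV ρ x + restV ρ y from funext fun k => map_add ρ _ _,
          AlternatingMap.map_update_add, map_add]
      map_update_smul' := fun v q a x => by
        classical
        rename_i inst
        have : ∀ z, (fun p => restV ρ (Function.update v q z p)) =
            Function.update (fun p => restV ρ (v p)) q (restV ρ z) := fun z => funext fun p => by
          by_cases hpq : p = q <;> simp [hpq]
        simp only [this]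
        rw [show restV ρ (a • x) = ρ a • restV ρ x from funext fun k => map_mul ρ _ _,
          AlternatingMap.map_update_smul, map_smul]
        rfl
      map_eq_zero_of_eq' := fun v p q h hpq => by
        rw [AlternatingMap.map_eq_zero_of_eq _ (fun q => restV ρ (v q)) (congrArg (restV ρ) h) hpq, map_zero] }
  let η' : KW A c i →ₗ[A] E := { toFun := η, map_add' := map_add η, map_smul' := fun a x => η.map_smulₛₗ a x }
  have h : ψ₁ = η'.compAlternatingMap (exteriorPower.ιMulti A i) := by
    refine Module.Basis.ext_alternating (Pi.basisFun A (Fin c)) fun σ hσ => ?_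
    show semiExt ρ η (exteriorPower.ιMulti B i _) = η (exteriorPower.ιMulti A i _)
    simp only [restV_basis]
    exact semiExt_basis ρ η σ hσ
  exact DFunLike.congr_fun h v

end Semi

/-- The Koszul complex. -/
def kx (f : Fin c → A) : ChainComplex (ModuleCat.{u} A) ℕ :=
  ChainComplex.of (fun i => ModuleCat.of A (KW A c i)) (fun i => ModuleCat.ofHom (kd f i))
    (fun i => ModuleCat.hom_ext (kd_kd f i))

theorem kx_d (f : Fin c → A) (i : ℕ) : (kx f).d (i + 1) i = ModuleCat.ofHom (kd f i) :=
  (ChainComplex.of_d (fun j => ModuleCat.of A (KW A c j)) (fun j => ModuleCat.ofHom (kd f j)) i)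

theorem kx_exactAt (f : Fin c → A) (hf : RingTheory.Sequence.IsWeaklyRegular A (List.ofFn f)) (i : ℕ) :
    (kx f).ExactAt (i + 1) := by
  rw [HomologicalComplex.exactAt_iff' _ (i + 1 + 1) (i + 1) i (by simp) (by simp),
    ShortComplex.ShortExact.moduleCat_exact_iff_function_exact]
  simp only [HomologicalComplex.shortComplexFunctor'_obj_f, HomologicalComplex.shortComplexFunctor'_obj_g,
    HomologicalComplex.sc', kx_d]
  exact kd_exact f hf i

/-- The Koszul complex with coefficients. -/
def kxN (N : Type u) [AddCommGroup N] [Module A N] (f : Fin c → A) : ChainComplex (ModuleCat.{u} A) ℕ :=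
  ChainComplex.of (fun i => ModuleCat.of A (N ⊗[A] KW A c i)) (fun i => ModuleCat.ofHom ((kd f i).lTensor N))
    (fun i => ModuleCat.hom_ext (by
      show (kd f i).lTensor N ∘ₗ (kd f (i + 1)).lTensor N = 0
      rw [← LinearMap.lTensor_comp, kd_kd, LinearMap.lTensor_zero]))

theorem kxN_d (N : Type u) [AddCommGroup N] [Module A N] (f : Fin c → A) (i : ℕ) :
    (kxN N f).d (i + 1) i = ModuleCat.ofHom ((kd f i).lTensor N) :=
  ChainComplex.of_d (fun j => ModuleCat.of A (N ⊗[A] KW A c j)) (fun j => ModuleCat.ofHom ((kd f j).lTensor N)) i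

theorem kxN_exactAt (N : Type u) [AddCommGroup N] [Module A N] [Module.Flat A N] (f : Fin c → A)
    (hf : RingTheory.Sequence.IsWeaklyRegular A (List.ofFn f)) (i : ℕ) : (kxN N f).ExactAt (i + 1) := by
  rw [HomologicalComplex.exactAt_iff' _ (i + 1 + 1) (i + 1) i (by simp) (by simp),
    ShortComplex.ShortExact.moduleCat_exact_iff_function_exact]
  simp only [HomologicalComplex.shortComplexFunctor'_obj_f, HomologicalComplex.shortComplexFunctor'_obj_g,
    HomologicalComplex.sc', kxN_d]
  exact Module.Flat.lTensor_exact N (kd_exact f hf i)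

section Ext

open RingTheory.Sequence CategoryTheory.Abelian IsSMulRegular

theorem subsingleton_ext_of_weaklyRegular (Q : ModuleCat.{u} A) : ∀ (rs : List A) (M : ModuleCat.{u} A),
    (∀ r ∈ rs, r ∈ Module.annihilator A Q) → IsWeaklyRegular M rs → ∀ i < rs.length, Subsingleton (Ext Q M i)
  | [], _, _, _, i, hi => absurd hi (by simp)
  | a :: rs', M, hmem, hreg, i, hi => by
    simp only [isWeaklyRegular_cons_iff] at hreg
    simp only [List.mem_cons, forall_eq_or_imp] at hmem
    cases i with
    | zero =>
      have : Subsingleton (Q →ₗ[A] M) := subsingleton_of_forall_eq 0 fun φ => LinearMap.ext fun x =>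
        hreg.1 (show a • φ x = a • (0 : Q →ₗ[A] M) x by
          rw [← map_smul, Module.mem_annihilator.1 hmem.1 x, map_zero, LinearMap.zero_apply, smul_zero])
      exact (Ext.addEquiv₀.trans ModuleCat.homAddEquiv).subsingleton
    | succ i =>
      let g := AddCommGrpCat.ofHom ((Ext.mk₀ (ModuleCat.smulShortComplex M a).f).postcomp Q (add_zero (i + 1)))
      have mono_g : Mono g := by
        apply (Ext.covariant_sequence_exact₁' Q hreg.1.smulShortComplex_shortExact i (i + 1)
          rfl).mono_g ((AddCommGrpCat.isZero_of_iff_subsingleton.mpr ?_).eq_zero_of_src _)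
        exact subsingleton_ext_of_weaklyRegular Q rs' (ModuleCat.of A (QuotSMulTop a M)) hmem.2 hreg.2 i
          (by simpa using hi)
      have zero_g : g = 0 := by
        simp only [g, ModuleCat.smulShortComplex_f_eq_smul_id]
        exact Ext.postcomp_smul_id_eq_zero_of_mem_annihilator hmem.1 (i + 1)
      exact AddCommGrpCat.subsingleton_of_isZero (IsZero.of_mono_eq_zero _ zero_g)

theorem hasProjectiveDimensionLT_quot : ∀ (rs : List A) (M : ModuleCat.{u} A) (m : ℕ),
    HasProjectiveDimensionLT M m → IsWeaklyRegular M rs →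
      HasProjectiveDimensionLT (ModuleCat.of A (M ⧸ (Ideal.ofList rs • ⊤ : Submodule A M))) (m + rs.length)
  | [], M, m, hM, _ => by
    have e : (M ⧸ (Ideal.ofList ([] : List A) • ⊤ : Submodule A M)) ≃ₗ[A] M :=
      Submodule.quotEquivOfEqBot _ (by simp)
    exact hasProjectiveDimensionLT_of_iso e.toModuleIso.symm m
  | a :: rs', M, m, hM, hreg => by
    simp only [isWeaklyRegular_cons_iff] at hreg
    have h1 : HasProjectiveDimensionLT (ModuleCat.of A (QuotSMulTop a M)) (m + 1) :=
      hreg.1.smulShortComplex_shortExact.hasProjectiveDimensionLT_X₃ m hM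
        (hasProjectiveDimensionLT_of_ge M m (m + 1) (Nat.le_succ m))
    have h2 := hasProjectiveDimensionLT_quot rs' (ModuleCat.of A (QuotSMulTop a M)) (m + 1) h1 hreg.2
    rw [List.length_cons, show m + (rs'.length + 1) = m + 1 + rs'.length by omega]
    exact @hasProjectiveDimensionLT_of_iso _ _ _ _ _
      (Submodule.quotOfListConsSMulTopEquivQuotSMulTopInner (M := M) a rs').symm.toModuleIso _ h2

theorem subsingleton_ext_quotient_above (rs : List A) (h : IsWeaklyRegular A rs) (N : ModuleCat.{u} A) (i : ℕ)
    (hi : rs.length < i) : Subsingleton (Ext (ModuleCat.of A (A ⧸ Ideal.ofList rs)) N i) := by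
  haveI : Projective (ModuleCat.of A A) := ModuleCat.projective_of_free (Module.Basis.singleton (Fin 1) A)
  have h1 := hasProjectiveDimensionLT_quot rs (ModuleCat.of A A) 1 inferInstance h
  have e : ((ModuleCat.of A A : ModuleCat.{u} A) ⧸ (Ideal.ofList rs • ⊤ : Submodule A (ModuleCat.of A A))) ≃ₗ[A]
      (A ⧸ Ideal.ofList rs) := Submodule.quotEquivOfEq _ _ (by simp [Ideal.mul_top])
  have h2 := hasProjectiveDimensionLT_of_iso e.toModuleIso (1 + rs.length)
  exact HasProjectiveDimensionLT.subsingleton _ (1 + rs.length) i (by omega) N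

theorem isWeaklyRegular_of_flat (N : Type u) [AddCommGroup N] [Module A N] [Module.Flat A N] (rs : List A)
    (h : IsWeaklyRegular A rs) : IsWeaklyRegular N rs := by
  have := h.isWeaklyRegular_lTensor (M₂ := N)
  exact (LinearEquiv.isWeaklyRegular_congr (TensorProduct.rid A N) rs).1 this

end Ext

end GrothLib.FundIso27
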