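import Groth.Agent.Lib.FundIso27.Kos

/-!
# The Koszul class under restriction, scalars and change of frame
-/

set_option autoImplicit false
set_option maxHeartbeats 800000
set_option linter.style.haveILetI false
set_option backward.isDefEq.respectTransparency false

universe u

open CategoryTheory CategoryTheory.Limits AlgebraicGeometry Opposite TopologicalSpace
open GrothLib.InvExt (mres)

noncomputable section

namespace GrothLib.FundIso27

variable {P : Scheme.{u}} {c : ℕ} {U : P.Opens} (hU : IsAffineOpen U) {V : P.Opens} (hV : IsAffineOpen V)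
  (f : Fin c → Γ(P, U)) (g : Fin c → Γ(P, V))

/-- The morphism out of a term attached to a linear map into sections. -/
def liftK (i : ℕ) {N : P.Modules} (θ : KW Γ(P, V) c i →ₗ[Γ(P, V)] Γ(N, V)) : (skx hV g).X i ⟶ N :=
  liftT hV (M := ModuleCat.of Γ(P, V) (KW Γ(P, V) c i)) θ

theorem liftK_sk (i : ℕ) {N : P.Modules} (θ : KW Γ(P, V) c i →ₗ[Γ(P, V)] Γ(N, V)) (x : KW Γ(P, V) c i) :
    (liftK hV g i θ).app V (sk hV g i x) = θ x :=
  liftT_sgm hV (M := ModuleCat.of Γ(P, V) (KW Γ(P, V) c i)) θ x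

theorem homTop_ext {N : P.Modules} {h h' : (skx hV g).X c ⟶ N}
    (e : h.app V (sk hV g c (ktop Γ(P, V) c)) = h'.app V (sk hV g c (ktop Γ(P, V) c))) : h = h' := by
  refine homK_ext hV g fun x => ?_
  obtain ⟨a, rfl⟩ := bijective_smul_ktop.2 x
  simp only [map_smul, app_smul', e]

theorem zeroEquiv_symm_one {A : Type u} [CommRing A] (v : Fin 0 → (Fin c → A)) :
    (exteriorPower.zeroEquiv A (Fin c → A)).symm 1 = exteriorPower.ιMulti A 0 v := by
  rw [LinearEquiv.symm_apply_eq, exteriorPower.zeroEquiv_ιMulti]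

/-- A compatible family gives a morphism of complexes. -/
def mkHom (θ : ∀ i, KW Γ(P, V) c i →ₗ[Γ(P, V)] Γ((skx hU f).X i, V))
    (hθ : ∀ i x, ((skx hU f).d (i + 1) i).app V (θ (i + 1) x) = θ i (kd g i x)) : skx hV g ⟶ skx hU f where
  f i := liftK hV g i (θ i)
  comm' i j hij := by
    obtain rfl : j + 1 = i := hij
    refine homK_ext hV g fun x => ?_
    rw [comp_app', comp_app', liftK_sk, sk_d, liftK_sk, hθ]

theorem mkHom_bot (θ : ∀ i, KW Γ(P, V) c i →ₗ[Γ(P, V)] Γ((skx hU f).X i, V)) (hθ) :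
    (zMap (mkHom hU hV f g θ hθ) 0).app V (z0 hV g) =
      (zπ (skx hU f) 0).app V (θ 0 (exteriorPower.ιMulti Γ(P, V) 0 Fin.elim0)) := by
  rw [z0, ← comp_app', zπ_map, comp_app', zeroEquiv_symm_one Fin.elim0]
  exact congrArg _ (liftK_sk hV g 0 (θ 0) _)

theorem mkHom_top (θ : ∀ i, KW Γ(P, V) c i →ₗ[Γ(P, V)] Γ((skx hU f).X i, V)) (hθ) {N : P.Modules}
    (s : Γ(N, U)) (s' : Γ(N, V)) (h : (sT hU f s).app V (θ c (ktop Γ(P, V) c)) = s') :
    (mkHom hU hV f g θ hθ).f c ≫ sT hU f s = sT hV g s' := by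
  refine homTop_ext hV g ?_
  rw [comp_app', sT_ktop, ← h]
  exact congrArg _ (liftK_sk hV g c (θ c) _)

section Restrict

variable (hVU : V ≤ U)

/-- Restriction of functions. -/
abbrev resR : Γ(P, U) →+* Γ(P, V) := (P.presheaf.map (homOfLE hVU).op).hom

/-- Restricted sections of the terms. -/
def eta' (i : ℕ) : KW Γ(P, U) c i →ₛₗ[resR hVU] Γ((skx hU f).X i, V) where
  toFun x := mres _ hVU (sk hU f i x)
  map_add' x y := by rw [map_add]; exact map_add _ _ _
  map_smul' r x := by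
    rw [map_smul]
    exact InvExt.mres_smul _ hVU r _

theorem restrict_comm (i : ℕ) (x : KW Γ(P, V) c (i + 1)) :
    ((skx hU f).d (i + 1) i).app V (semiExt (resR hVU) (eta' hU f hVU (i + 1)) x) =
      semiExt (resR hVU) (eta' hU f hVU i) (kd (restV (resR hVU) f) i x) := by
  refine LinearMap.congr_fun (semi_ext (resR hVU) (l := appL ((skx hU f).d (i + 1) i) V ∘ₗ
    semiExt (resR hVU) (eta' hU f hVU (i + 1))) (l' := semiExt (resR hVU) (eta' hU f hVU i) ∘ₗ
      kd (restV (resR hVU) f) i) fun v => ?_) x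
  rw [LinearMap.comp_apply, LinearMap.comp_apply, appL_apply, semiExt_ιMulti, kd_ιMulti, map_sum]
  show ((skx hU f).d (i + 1) i).app V (mres _ hVU (sk hU f (i + 1) _)) = _
  rw [app_mres, sk_d]
  show eta' hU f hVU i (kd f i (exteriorPower.ιMulti Γ(P, U) (i + 1) v)) = _
  rw [kd_ιMulti, map_sum]
  refine Finset.sum_congr rfl fun p _ => ?_
  rw [LinearMap.map_smulₛₗ, map_smul, semiExt_ιMulti]
  congr 1
  rw [pv_restV, map_mul, map_pow, map_neg, map_one]

/-- Restriction as a morphism of complexes. -/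
def resHom : skx hV (restV (resR hVU) f) ⟶ skx hU f :=
  mkHom hU hV f (restV (resR hVU) f) (fun i => semiExt (resR hVU) (eta' hU f hVU i)) (restrict_comm hU f hVU)

end Restrict

variable {f g} {M : P.Modules} {q : Coh.structureModule P ⟶ M} [ModSite.HasSheafHom (O := P.sheaf) M]
  [HasInjectiveResolutions P.Modules] [Epi q] {N : P.Modules}

theorem kcls_restrict (hVU : V ≤ U) (hf : IsRFrame f q) (hg : IsRFrame (restV (resR hVU) f) q) (s : Γ(N, U)) :
    kcls hV hg (mres N hVU s) = mres (((homM M).rightDerived c).obj N) hVU (kcls hU hf s) := by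
  refine (kcls_hom hU hV hVU hf hg (resHom hU hV f hVU) 1 ?_ s (mres N hVU s) ?_).trans (one_smul Γ(P, V) _)
  · rw [one_smul]
    refine (mkHom_bot hU hV f _ _ _).trans ?_
    show (zπ (skx hU f) 0).app V _ = mres _ hVU ((zπ (skx hU f) 0).app U _)
    rw [← app_mres, zeroEquiv_symm_one (fun q : Fin 0 => Fin.elim0 q)]
    refine congrArg _ (Eq.trans ?_ (semiExt_ιMulti (resR hVU) (eta' hU f hVU 0) (fun q : Fin 0 => Fin.elim0 q)))
    exact congrArg _ (congrArg _ (Subsingleton.elim _ _))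
  · refine mkHom_top hU hV f _ _ _ s _ ?_
    have h : ktop Γ(P, V) c = exteriorPower.ιMulti Γ(P, V) c
        (fun p => restV (resR hVU) (Pi.basisFun Γ(P, U) (Fin c) p)) := by
      simp only [restV_basis]
    rw [h, semiExt_ιMulti]
    show (sT hU f s).app V (mres _ hVU (sk hU f c _)) = _
    rw [app_mres, sT_ktop]

section Same

variable {f' : Fin c → Γ(P, U)}

theorem kcls_frame (m : (Fin c → Γ(P, U)) →ₗ[Γ(P, U)] (Fin c → Γ(P, U))) (hm : pv f ∘ₗ m = pv f')
    (hf : IsRFrame f q) (hf' : IsRFrame f' q) (s : Γ(N, U)) :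
    kcls hU hf' (LinearMap.det m • s) = kcls hU hf s := by
  refine (kcls_hom hU hU le_rfl hf hf' (mkHom hU hU f f' (fun i => sk hU f i ∘ₗ exteriorPower.map i m)
    (fun i x => ?_)) 1 ?_ s _ ?_).trans ?_
  · rw [LinearMap.comp_apply, sk_d, LinearMap.comp_apply]
    exact congrArg _ (LinearMap.congr_fun (kd_map f f' m hm i) x).symm
  · rw [one_smul]
    refine (mkHom_bot hU hU f f' _ _).trans ?_
    rw [InvExt.mres_self, z0, LinearMap.comp_apply, exteriorPower.map_apply_ιMulti,
      zeroEquiv_symm_one Fin.elim0]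
    exact congrArg _ (congrArg _ (congrArg _ (Subsingleton.elim _ _)))
  · refine mkHom_top hU hU f f' _ _ s _ ?_
    rw [LinearMap.comp_apply, map_ktop, map_smul, app_smul', sT_ktop]
  · rw [one_smul, InvExt.mres_self]

theorem kcls_smul (hf : IsRFrame f q) (a : Γ(P, U)) (s : Γ(N, U)) :
    kcls hU hf (a • s) = a • kcls hU hf s := by
  refine (kcls_hom hU hU le_rfl hf hf (mkHom hU hU f f (fun i => a • sk hU f i) (fun i x => ?_)) a ?_ s _ ?_).trans ?_
  · rw [LinearMap.smul_apply, LinearMap.smul_apply, app_smul', sk_d]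
  · refine (mkHom_bot hU hU f f _ _).trans ?_
    rw [InvExt.mres_self, z0, LinearMap.smul_apply, app_smul', zeroEquiv_symm_one Fin.elim0]
  · refine mkHom_top hU hU f f _ _ s _ ?_
    rw [LinearMap.smul_apply, app_smul', sT_ktop]
  · rw [InvExt.mres_self]

/-- The class of one frame in terms of another. -/
theorem kcls_frame' (m : (Fin c → Γ(P, U)) →ₗ[Γ(P, U)] (Fin c → Γ(P, U))) (hm : pv f ∘ₗ m = pv f')
    (hf : IsRFrame f q) (hf' : IsRFrame f' q) (s : Γ(N, U)) :
    LinearMap.det m • kcls hU hf' s = kcls hU hf s := by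
  rw [← kcls_smul, kcls_frame hU m hm hf hf']

end Same

end GrothLib.FundIso27
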