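import Groth.Agent.Lib.FundIso27.Kos
import Groth.Agent.Lib.ExtTilde20.Affine
import Groth.Agent.Lib.SerrePn27.ExtHH
import Groth.Agent.Lib.QCoh.Affine
import Groth.Agent.Lib.OX.TensorInjective

/-!
# Local vanishing: scalars in the annihilator, and Ext below and above the length
-/

set_option autoImplicit false
set_option maxHeartbeats 800000
set_option linter.style.haveILetI false
set_option backward.isDefEq.respectTransparency false

universe u

open CategoryTheory CategoryTheory.Limits AlgebraicGeometry Opposite TopologicalSpace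

noncomputable section

namespace GrothLib.FundIso27

section Global

variable {S : Scheme.{u}} {M : S.Modules} [ModSite.HasSheafHom (O := S.sheaf) M]

theorem homM_map_smul_eq_zero (r : Coh.Γtop S) (hr : Formal.smulModΓ M r = 0) (N : S.Modules) :
    (homM M).map (Formal.smulModΓ N r) = 0 := by
  let adj : (DCoh.tensorBi (X := S)).flip.obj M ⊣ homM M := ModSite.sheafHomAdj (O := S.sheaf) M
  have h0 : adj.counit.app N ≫ Formal.smulModΓ N r = 0 := by
    refine (KLin.comp_smulModΓ _ _).trans ?_
    have e := SerrePn27.tensor_map_smulModΓ_right ((homM M).obj N) M r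
    rw [hr, Functor.map_zero] at e
    exact (congrArg (· ≫ adj.counit.app N) e.symm).trans zero_comp
  refine (adj.homEquiv _ N).symm.injective ?_
  rw [Adjunction.homEquiv_counit, Adjunction.homEquiv_counit]
  refine (adj.counit.naturality (Formal.smulModΓ N r)).trans ?_
  rw [Functor.id_map, h0]
  haveI : ((DCoh.tensorBi (X := S)).flip.obj M).Additive := adj.left_adjoint_additive
  rw [Functor.map_zero, zero_comp]

theorem rightDerived_map_smul_eq_zero [HasInjectiveResolutions S.Modules] (r : Coh.Γtop S)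
    (hr : Formal.smulModΓ M r = 0) (N : S.Modules) (i : ℕ) :
    ((homM M).rightDerived i).map (Formal.smulModΓ N r) = 0 := by
  let I := injectiveResolution N
  let φ : I.cocomplex ⟶ I.cocomplex :=
    { f := fun n => Formal.smulModΓ (I.cocomplex.X n) r
      comm' := fun a b _ => (KLin.comp_smulModΓ _ _).symm }
  have hφ : I.ι.f 0 ≫ φ.f 0 = Formal.smulModΓ N r ≫ I.ι.f 0 := KLin.comp_smulModΓ _ _
  have h0 : ((homM M).mapHomologicalComplex _).map φ = 0 := by
    refine HomologicalComplex.hom_ext _ _ fun n => ?_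
    exact homM_map_smul_eq_zero r hr _
  have h := InjectiveResolution.isoRightDerivedObj_hom_naturality (Formal.smulModΓ N r) I I φ hφ (homM M) i
  rw [← cancel_mono (I.isoRightDerivedObj (homM M) i).hom, h, Functor.comp_map, h0, Functor.map_zero, comp_zero,
    zero_comp]

end Global

variable {P : Scheme.{u}} {U : P.Opens} (hU : IsAffineOpen U)

/-- A function on `U` as a global function on the spectrum. -/
abbrev specFun (a : Γ(P, U)) : Coh.Γtop (Spec Γ(P, U)) := (Scheme.ΓSpecIso Γ(P, U)).inv a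

theorem smul_specFun {M : (Spec Γ(P, U)).Modules} (a : Γ(P, U)) (W : (Spec Γ(P, U)).Opens) (m : Γ(M, W)) :
    (Formal.smulModΓ M (specFun a)).app W m = a • m := by
  rw [KLin.smulModΓ_app_apply, Scheme.Modules.smul_Spec_def]
  rfl

theorem tilde_map_smul (N : ModuleCat.{u} Γ(P, U)) (a : Γ(P, U)) :
    (tilde.functor Γ(P, U)).map (ModuleCat.ofHom (a • LinearMap.id : N →ₗ[Γ(P, U)] N)) =
      Formal.smulModΓ ((tilde.functor Γ(P, U)).obj N) (specFun a) := by
  refine (tilde.adjunction.homEquiv _ _).injective (ModuleCat.hom_ext (LinearMap.ext fun m => ?_))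
  rw [Adjunction.homEquiv_unit, Adjunction.homEquiv_unit]
  refine (ConcreteCategory.congr_hom (tilde.adjunction.unit.naturality
    (ModuleCat.ofHom (a • LinearMap.id : N →ₗ[Γ(P, U)] N))) m).symm.trans ?_
  refine ((tilde.adjunction.unit.app N).hom.map_smul a m).trans ?_
  exact (smul_specFun a ⊤ _).symm

variable {M : P.Modules} (q : Coh.structureModule P ⟶ M) [Epi q]

theorem smul_restrict_eq_zero (a : Γ(P, U)) (ha : q.app U a = 0) :
    Formal.smulModΓ ((Scheme.Modules.restrictFunctor hU.fromSpec).obj M) (specFun a) = 0 := by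
  haveI : Epi ((Scheme.Modules.restrictFunctor hU.fromSpec).map q) := inferInstance
  rw [← cancel_epi ((Scheme.Modules.restrictFunctor hU.fromSpec).map q), comp_zero]
  refine Scheme.Modules.hom_ext _ _ fun W => AddCommGrpCat.hom_ext (AddMonoidHom.ext fun b => ?_)
  show (Formal.smulModΓ _ (specFun a)).app W (((Scheme.Modules.restrictFunctor hU.fromSpec).map q).app W b) = 0
  rw [smul_specFun]
  have hW : hU.fromSpec ''ᵁ W ≤ U :=
    (hU.fromSpec.image_le_opensRange W).trans_eq hU.opensRange_fromSpec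
  refine (QCoh.secIso hU M W rfl).injective ?_
  rw [QCoh.secIso_smul hU M rfl hW, map_zero, QCoh.secIso_apply]
  show P.presheaf.map (homOfLE hW).op a • M.presheaf.map (𝟙 _) (q.app (hU.fromSpec ''ᵁ W) b) = 0
  rw [CategoryTheory.Functor.map_id]
  suffices key : ∀ b' : Γ(Coh.structureModule P, hU.fromSpec ''ᵁ W),
      P.presheaf.map (homOfLE hW).op a • q.app (hU.fromSpec ''ᵁ W) b' = 0 from key b
  intro b'
  refine (Scheme.Modules.Hom.app_smul q _ b').symm.trans ?_
  have e : (P.presheaf.map (homOfLE hW).op a • b' : Γ(Coh.structureModule P, hU.fromSpec ''ᵁ W)) =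
      (show Γ(P, hU.fromSpec ''ᵁ W) from b') • (show Γ(Coh.structureModule P, hU.fromSpec ''ᵁ W) from
        P.presheaf.map (homOfLE hW).op a) :=
    mul_comm (G := Γ(P, hU.fromSpec ''ᵁ W)) _ _
  refine (congrArg _ e).trans ((Scheme.Modules.Hom.app_smul q _ _).trans ?_)
  refine Eq.trans (congrArg _ ?_) (smul_zero _)
  exact (ConcreteCategory.congr_hom (q.mapPresheaf.naturality (homOfLE hW).op) a).trans
    ((congrArg (M.presheaf.map (homOfLE hW).op) ha).trans (map_zero _))

variable [ModSite.HasSheafHom (O := P.sheaf) M] [HasInjectiveResolutions P.Modules]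

/-- Restriction to the spectrum. -/
abbrev Rres : P.Modules ⥤ (Spec Γ(P, U)).Modules := Scheme.Modules.restrictFunctor hU.fromSpec

theorem map_derived_smul_eq_zero (a : Γ(P, U)) (ha : q.app U a = 0) (N : ModuleCat.{u} Γ(P, U)) (i : ℕ) :
    (Rres hU).map (((homM M).rightDerived i).map
      ((TU hU).map (ModuleCat.ofHom (a • LinearMap.id : N →ₗ[Γ(P, U)] N)))) = 0 := by
  haveI := ExtTilde20.hasInjectiveResolutions_mod (Spec Γ(P, U))
  haveI := SheafCoh.hasSheafHom (Spec Γ(P, U)).sheaf ((Rres hU).obj M)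
  haveI : HasInjectiveResolutions (Spec Γ(P, U)).Modules := ExtTilde20.hasInjectiveResolutions_mod (Spec Γ(P, U))
  let E := HomRestrict20.extShRestrictIso hU.fromSpec M i
  let h := (TU hU).map (ModuleCat.ofHom (a • LinearMap.id : N →ₗ[Γ(P, U)] N))
  have e1 : (Rres hU).map h = (restrictTU hU).hom.app N ≫
      Formal.smulModΓ ((tilde.functor Γ(P, U)).obj N) (specFun a) ≫ (restrictTU hU).inv.app N := by
    rw [← tilde_map_smul]
    refine Eq.trans ?_ (congrArg ((restrictTU hU).hom.app N ≫ ·)
      ((restrictTU hU).inv.naturality (ModuleCat.ofHom (a • LinearMap.id : N →ₗ[Γ(P, U)] N))).symm)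
    exact (Iso.hom_inv_id_app_assoc (restrictTU hU) N _).symm
  have e2 : ((homM ((Rres hU).obj M)).rightDerived i).map ((Rres hU).map h) = 0 := by
    rw [e1, Functor.map_comp, Functor.map_comp,
      rightDerived_map_smul_eq_zero _ (smul_restrict_eq_zero hU q a ha), zero_comp, comp_zero]
  have e3 := E.hom.naturality h
  refine (cancel_mono (E.hom.app _)).1 (e3.trans ?_)
  rw [zero_comp]
  show E.hom.app _ ≫ ((homM ((Rres hU).obj M)).rightDerived i).map ((Rres hU).map h) = 0
  rw [e2, comp_zero]

theorem isZero_derived_of_ext [IsNoetherianRing Γ(P, U)] [M.IsQuasicoherent] [Module.Finite Γ(P, U) Γ(M, U)]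
    (W : P.Modules) (N : ModuleCat.{u} Γ(P, U)) (eW : (Rres hU).obj W ≅ (tilde.functor Γ(P, U)).obj N) (i : ℕ)
    (h : Subsingleton (Abelian.Ext (ExtTilde20.secMod (U := U) M) N i)) :
    IsZero ((Rres hU).obj (((homM M).rightDerived i).obj W)) := by
  haveI := ExtTilde20.hasInjectiveResolutions_mod (Spec Γ(P, U))
  haveI := SheafCoh.hasSheafHom (Spec Γ(P, U)).sheaf ((Rres hU).obj M)
  haveI := SheafCoh.hasSheafHom (Spec Γ(P, U)).sheaf ((tilde.functor Γ(P, U)).obj (ExtTilde20.secMod (U := U) M))
  haveI : Module.Finite Γ(P, U) (ExtTilde20.secMod (U := U) M) := inferInstanceAs (Module.Finite Γ(P, U) Γ(M, U))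
  obtain ⟨a⟩ := ExtTilde20.nonempty_extSh_tilde_iso (ExtTilde20.secMod (U := U) M) N i
  refine IsZero.of_iso ?_ ((HomRestrict20.extShRestrictIso hU.fromSpec M i).app W ≪≫
    (ModSite.extSh (O := (Spec Γ(P, U)).sheaf) ((Rres hU).obj M) i).mapIso eW ≪≫
    (ExtTilde20.extShCongr (ExtTilde20.restrictTildeIso hU M) i).app _ ≪≫ a)
  exact (tilde.functor Γ(P, U)).map_isZero (ModuleCat.isZero_of_subsingleton _)

theorem isZero_derived_TU [IsNoetherianRing Γ(P, U)] [M.IsQuasicoherent] [Module.Finite Γ(P, U) Γ(M, U)]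
    (N : ModuleCat.{u} Γ(P, U)) (i : ℕ) (h : Subsingleton (Abelian.Ext (ExtTilde20.secMod (U := U) M) N i)) :
    IsZero ((Rres hU).obj (((homM M).rightDerived i).obj ((TU hU).obj N))) :=
  isZero_derived_of_ext hU _ N ((restrictTU hU).app N) i h

theorem isZero_derived_qcoh [IsNoetherianRing Γ(P, U)] [M.IsQuasicoherent] [Module.Finite Γ(P, U) Γ(M, U)]
    (F : P.Modules) [F.IsQuasicoherent] (i : ℕ)
    (h : Subsingleton (Abelian.Ext (ExtTilde20.secMod (U := U) M) (ExtTilde20.secMod (U := U) F) i)) :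
    IsZero ((Rres hU).obj (((homM M).rightDerived i).obj F)) :=
  isZero_derived_of_ext hU F _ (ExtTilde20.restrictTildeIso hU F) i h

end GrothLib.FundIso27
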