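import Groth.Agent.Lib.FundIso27.Compat
import Groth.Agent.Lib.FundIso27.Vanish
import Mathlib.LinearAlgebra.TensorProduct.RightExactness
import Mathlib.LinearAlgebra.TensorProduct.Associator

/-!
# The Koszul complex with flat coefficients, as sheaves
-/

set_option autoImplicit false
set_option maxHeartbeats 1200000
set_option linter.style.haveILetI false
set_option backward.isDefEq.respectTransparency false

universe u

open CategoryTheory CategoryTheory.Limits AlgebraicGeometry Opposite TopologicalSpace TensorProduct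

noncomputable section

namespace GrothLib.FundIso27

section Sec

variable {R : CommRingCat.{u}}

theorem exact_Γ {S : ShortComplex (Spec R).Modules} (h₁ : S.X₁.IsQuasicoherent) (h₂ : S.X₂.IsQuasicoherent)
    (h₃ : S.X₃.IsQuasicoherent) (hS : S.Exact) :
    haveI : (moduleSpecΓFunctor (R := R)).PreservesZeroMorphisms :=
      haveI : (moduleSpecΓFunctor (R := R)).IsRightAdjoint := tilde.adjunction.isRightAdjoint
      Functor.preservesZeroMorphisms_of_map_zero_object
        (((moduleSpecΓFunctor (R := R)).map_isZero (isZero_zero _)).isoZero)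
    Function.Exact ((moduleSpecΓFunctor (R := R)).map S.f) ((moduleSpecΓFunctor (R := R)).map S.g) ∧
      (Epi S.g → Function.Surjective ((moduleSpecΓFunctor (R := R)).map S.g)) := by
  haveI : (moduleSpecΓFunctor (R := R)).PreservesZeroMorphisms :=
      haveI : (moduleSpecΓFunctor (R := R)).IsRightAdjoint := tilde.adjunction.isRightAdjoint
      Functor.preservesZeroMorphisms_of_map_zero_object
        (((moduleSpecΓFunctor (R := R)).map_isZero (isZero_zero _)).isoZero)
  have hi : ∀ M : (Spec R).Modules, M.IsQuasicoherent → IsIso M.fromTildeΓ := fun M hM =>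
    @Scheme.Modules.isIso_fromTildeΓ_of_isQuasicoherent _ M hM
  haveI := hi _ h₁
  haveI := hi _ h₂
  haveI := hi _ h₃
  let T := Scheme.Modules.fromTildeΓNatTrans (R := R)
  let e : (S.map (moduleSpecΓFunctor (R := R))).map (tilde.functor R) ≅ S :=
    ShortComplex.isoMk (asIso S.X₁.fromTildeΓ) (asIso S.X₂.fromTildeΓ) (asIso S.X₃.fromTildeΓ)
      (T.naturality S.f).symm (T.naturality S.g).symm
  have hE : (S.map (moduleSpecΓFunctor (R := R))).Exact :=
    (ShortComplex.exact_map_iff_of_faithful _ (tilde.functor R)).1 ((ShortComplex.exact_iff_of_iso e).2 hS)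
  refine ⟨(ShortComplex.ShortExact.moduleCat_exact_iff_function_exact _).1 hE, fun hg => ?_⟩
  haveI : Epi ((tilde.functor R).map ((moduleSpecΓFunctor (R := R)).map S.g)) :=
    ((MorphismProperty.epimorphisms _).arrow_mk_iso_iff
      (Arrow.isoMk (asIso S.X₂.fromTildeΓ) (asIso S.X₃.fromTildeΓ) (T.naturality S.g).symm)).2 hg
  exact (ModuleCat.epi_iff_surjective _).1 ((tilde.functor R).epi_of_epi_map ‹_›)

end Sec

variable {P : Scheme.{u}} {U : P.Opens} (hU : IsAffineOpen U)

theorem app_bijective_of_isIso_restrict {A B : P.Modules} (h : A ⟶ B) (hh : IsIso ((Rres hU).map h)) :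
    Function.Bijective (h.app U) := by
  haveI : IsIso ((GU hU).map h) := Functor.map_isIso (moduleSpecΓFunctor (R := Γ(P, U))) ((Rres hU).map h)
  have hb := ConcreteCategory.bijective_of_isIso ((GU hU).map h)
  refine ⟨fun x y e => ?_, fun y => ?_⟩
  · obtain ⟨a, rfl⟩ := (secU hU A).surjective x
    obtain ⟨b, rfl⟩ := (secU hU A).surjective y
    rw [← secU_natural, ← secU_natural] at e
    exact congrArg _ (hb.1 ((secU hU B).injective e))
  · obtain ⟨b, rfl⟩ := (secU hU B).surjective y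
    obtain ⟨a, ha⟩ := hb.2 b
    exact ⟨secU hU A a, by rw [← secU_natural, ha]⟩

theorem app_exact {S : ShortComplex P.Modules} (h₁ : ((Rres hU).obj S.X₁).IsQuasicoherent)
    (h₂ : ((Rres hU).obj S.X₂).IsQuasicoherent) (h₃ : ((Rres hU).obj S.X₃).IsQuasicoherent)
    (hS : (S.map (Rres hU)).Exact) :
    Function.Exact (S.f.app U) (S.g.app U) ∧ (Epi ((Rres hU).map S.g) → Function.Surjective (S.g.app U)) := by
  have h := exact_Γ (S := S.map (Rres hU)) h₁ h₂ h₃ hS
  refine ⟨fun y => ?_, fun hg x => ?_⟩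
  · obtain ⟨b, rfl⟩ := (secU hU S.X₂).surjective y
    rw [← secU_natural, (secU hU S.X₃).map_eq_zero_iff]
    refine (h.1 b).trans ⟨?_, ?_⟩
    · rintro ⟨a, rfl⟩
      exact ⟨secU hU S.X₁ a, (secU_natural hU S.f a).symm⟩
    · rintro ⟨a', ha'⟩
      obtain ⟨a, rfl⟩ := (secU hU S.X₁).surjective a'
      exact ⟨a, (secU hU S.X₂).injective ((secU_natural hU S.f a).trans ha')⟩
  · obtain ⟨b, rfl⟩ := (secU hU S.X₃).surjective x
    obtain ⟨a, ha⟩ := h.2 hg b
    exact ⟨secU hU S.X₂ a, by rw [← secU_natural]; exact congrArg _ ha⟩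

theorem isQuasicoherent_restrict_TU (N : ModuleCat.{u} Γ(P, U)) :
    ((Rres hU).obj ((TU hU).obj N)).IsQuasicoherent :=
  haveI : ((tilde.functor Γ(P, U)).obj N).IsQuasicoherent :=
    inferInstanceAs ((tilde (R := Γ(P, U)) N).IsQuasicoherent)
  QCoh.isQuasicoherent_of_iso ((restrictTU hU).app N).symm

variable {c : ℕ} (f : Fin c → Γ(P, U)) (N : Type u) [AddCommGroup N] [Module Γ(P, U) N]

/-- The Koszul complex with coefficients, as sheaves. -/
def skN : ChainComplex P.Modules ℕ := ((TU hU).mapHomologicalComplex (ComplexShape.down ℕ)).obj (kxN N f)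

/-- Sections of its terms. -/
def skn (i : ℕ) : N ⊗[Γ(P, U)] KW Γ(P, U) c i →ₗ[Γ(P, U)] Γ((skN hU f N).X i, U) :=
  sgm hU (ModuleCat.of Γ(P, U) (N ⊗[Γ(P, U)] KW Γ(P, U) c i))

theorem kxN_d_apply (i : ℕ) (x : N ⊗[Γ(P, U)] KW Γ(P, U) c (i + 1)) :
    (kxN N f).d (i + 1) i x = (kd f i).lTensor N x :=
  ConcreteCategory.congr_hom (kxN_d N f i) x

theorem skn_d (i : ℕ) (x : N ⊗[Γ(P, U)] KW Γ(P, U) c (i + 1)) :
    ((skN hU f N).d (i + 1) i).app U (skn hU f N (i + 1) x) = skn hU f N i ((kd f i).lTensor N x) :=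
  (sgm_natural hU ((kxN N f).d (i + 1) i) x).trans (congrArg (skn hU f N i) (kxN_d_apply f N i x))

theorem skN_exactAt [Module.Flat Γ(P, U) N] (hf : RingTheory.Sequence.IsWeaklyRegular Γ(P, U) (List.ofFn f))
    (i : ℕ) : (skN hU f N).ExactAt (i + 1) := by
  rw [HomologicalComplex.exactAt_iff' _ (i + 1 + 1) (i + 1) i (by simp) (by simp)]
  exact exact_TU hU (((kxN N f).exactAt_iff' (i + 1 + 1) (i + 1) i (by simp) (by simp)).1 (kxN_exactAt N f hf i))

theorem isZero_skN (i : ℕ) (h : c < i) : IsZero ((skN hU f N).X i) :=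
  haveI := subsingleton_KW (A := Γ(P, U)) h
  haveI : Subsingleton (N ⊗[Γ(P, U)] KW Γ(P, U) c i) :=
    subsingleton_of_forall_eq 0 fun z => by
      induction z with
      | zero => rfl
      | tmul a b => rw [Subsingleton.elim b 0, TensorProduct.tmul_zero]
      | add a b ha hb => rw [ha, hb, add_zero]
  (TU hU).map_isZero (ModuleCat.isZero_of_subsingleton (ModuleCat.of Γ(P, U) (N ⊗[Γ(P, U)] KW Γ(P, U) c i)))

/-- The unit of the degree-zero term. -/
def one0 : KW Γ(P, U) c 0 := (exteriorPower.zeroEquiv Γ(P, U) (Fin c → Γ(P, U))).symm 1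

/-- `N ≅ N ⊗ K₀`. -/
def incl0 : N →ₗ[Γ(P, U)] N ⊗[Γ(P, U)] KW Γ(P, U) c 0 := (TensorProduct.mk Γ(P, U) N _).flip one0

variable {N} in
theorem incl0_bijective : Function.Bijective (incl0 (c := c) (U := U) N) := by
  let e : N ≃ₗ[Γ(P, U)] N ⊗[Γ(P, U)] KW Γ(P, U) c 0 := (TensorProduct.rid Γ(P, U) N).symm ≪≫ₗ
    LinearEquiv.lTensor N (exteriorPower.zeroEquiv Γ(P, U) (Fin c → Γ(P, U))).symm
  have : ⇑e = ⇑(incl0 (c := c) (U := U) N) := funext fun n => by
    show (LinearEquiv.lTensor N _) ((TensorProduct.rid Γ(P, U) N).symm n) = n ⊗ₜ[Γ(P, U)] one0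
    rw [TensorProduct.rid_symm_apply, LinearEquiv.lTensor_tmul]
    rfl
  exact this ▸ e.bijective

theorem mem_range_lTensor_iff (n : N) :
    incl0 (c := c) N n ∈ LinearMap.range ((kd f 0).lTensor N) ↔
      n ∈ (Ideal.span (Set.range f) • ⊤ : Submodule Γ(P, U) N) := by
  let z := (exteriorPower.zeroEquiv Γ(P, U) (Fin c → Γ(P, U))).toLinearMap
  let e : N ⊗[Γ(P, U)] KW Γ(P, U) c 0 →ₗ[Γ(P, U)] N :=
    (TensorProduct.rid Γ(P, U) N).toLinearMap ∘ₗ z.lTensor N
  have he : ∀ (n : N) (x : KW Γ(P, U) c 0), e (n ⊗ₜ x) = z x • n := fun n x => by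
    simp [e]
  have hi : ∀ m, e (incl0 (c := c) N m) = m := fun m => by
    refine (he m one0).trans ?_
    show (exteriorPower.zeroEquiv Γ(P, U) (Fin c → Γ(P, U))) ((exteriorPower.zeroEquiv Γ(P, U) _).symm 1) • m = m
    rw [LinearEquiv.apply_symm_apply, one_smul]
  constructor
  · rintro ⟨y, hy⟩
    rw [← hi n, ← hy]
    clear hy
    induction y with
    | zero => simp
    | add a b ha hb => rw [map_add, map_add]; exact add_mem ha hb
    | tmul m x =>
      rw [LinearMap.lTensor_tmul, he]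
      refine Submodule.smul_mem_smul ?_ trivial
      rw [← range_kd_zero]
      exact ⟨x, rfl⟩
  · intro h
    induction h using Submodule.smul_induction_on' with
    | smul a ha m _ =>
      rw [← range_kd_zero] at ha
      obtain ⟨x, hx⟩ := ha
      refine ⟨m ⊗ₜ x, ?_⟩
      rw [LinearMap.lTensor_tmul, map_smul]
      have : kd f 0 x = a • one0 := by
        rw [one0, ← map_smul, LinearEquiv.eq_symm_apply, smul_eq_mul, mul_one]
        exact hx
      rw [this, tmul_smul]
      rfl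
    | add a _ b _ ha hb => rw [map_add]; exact add_mem ha hb

/-- The projection to the last cokernel, on sections. -/
def base0 : N →ₗ[Γ(P, U)] Γ(zO (skN hU f N) 0, U) :=
  appL (zπ (skN hU f N) 0) U ∘ₗ skn hU f N 0 ∘ₗ incl0 N

theorem isQuasicoherent_zO : ((Rres hU).obj (zO (skN hU f N) 0)).IsQuasicoherent := by
  haveI h1 : ((Rres hU).obj ((skN hU f N).X (0 + 1))).IsQuasicoherent :=
    isQuasicoherent_restrict_TU hU (ModuleCat.of Γ(P, U) (N ⊗[Γ(P, U)] KW Γ(P, U) c 1))
  haveI h0 : ((Rres hU).obj ((skN hU f N).X 0)).IsQuasicoherent :=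
    isQuasicoherent_restrict_TU hU (ModuleCat.of Γ(P, U) (N ⊗[Γ(P, U)] KW Γ(P, U) c 0))
  haveI := QCoh.isQuasicoherent_cokernel ((Rres hU).map ((skN hU f N).d (0 + 1) 0))
  exact QCoh.isQuasicoherent_of_iso (PreservesCokernel.iso (Rres hU) ((skN hU f N).d (0 + 1) 0)).symm

theorem base0_spec : Function.Surjective (base0 hU f N) ∧
    ∀ n, base0 hU f N n = 0 ↔ n ∈ (Ideal.span (Set.range f) • ⊤ : Submodule Γ(P, U) N) := by
  obtain ⟨hex, hsurj⟩ := app_exact hU (S := ShortComplex.mk _ _ (cokernel.condition ((skN hU f N).d (0 + 1) 0)))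
    (isQuasicoherent_restrict_TU hU (ModuleCat.of Γ(P, U) (N ⊗[Γ(P, U)] KW Γ(P, U) c 1)))
    (isQuasicoherent_restrict_TU hU (ModuleCat.of Γ(P, U) (N ⊗[Γ(P, U)] KW Γ(P, U) c 0)))
    (isQuasicoherent_zO hU f N) ((ShortComplex.exact_cokernel _).map (Rres hU))
  have hs := hsurj inferInstance
  refine ⟨fun z => ?_, fun n => ?_⟩
  · obtain ⟨w, hw⟩ := hs z
    obtain ⟨v, rfl⟩ := (bijective_sgm hU (ModuleCat.of Γ(P, U) (N ⊗[Γ(P, U)] KW Γ(P, U) c 0))).2 w
    obtain ⟨n, rfl⟩ := (incl0_bijective (c := c) (U := U)).2 v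
    exact ⟨n, hw⟩
  · rw [← mem_range_lTensor_iff]
    refine (hex (skn hU f N 0 (incl0 N n))).trans ⟨?_, ?_⟩
    · rintro ⟨y, hy⟩
      obtain ⟨v, rfl⟩ := (bijective_sgm hU (ModuleCat.of Γ(P, U) (N ⊗[Γ(P, U)] KW Γ(P, U) c 1))).2 y
      exact ⟨v, (bijective_sgm hU (ModuleCat.of Γ(P, U) (N ⊗[Γ(P, U)] KW Γ(P, U) c 0))).1
        ((skn_d hU f N 0 v).symm.trans hy)⟩
    · rintro ⟨v, hv⟩
      exact ⟨skn hU f N (0 + 1) v, (skn_d hU f N 0 v).trans (congrArg _ hv)⟩

theorem skN_killed {M : P.Modules} {q : Coh.structureModule P ⟶ M} (hf : IsRFrame f q) (W : P.Opens)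
    (a : Γ(P, W)) (ha : q.app W a = 0) (z : Γ(zO (skN hU f N) 0, W)) : a • z = 0 := by
  refine OX.section_eq_zero (a • z) fun x hxW => ?_
  haveI : Epi ((OX.stalk x).map (zπ (skN hU f N) 0)) := inferInstance
  by_cases hxU : x ∈ U
  · refine (OX.germ_smul' (DCoh.toP.obj (zO (skN hU f N) 0)) W hxW a z).trans ?_
    obtain ⟨w, hw⟩ := (ModuleCat.epi_iff_surjective ((OX.stalk x).map (zπ (skN hU f N) 0))).1 inferInstance
      (OX.germM (zO (skN hU f N) 0) W hxW z)
    refine Eq.trans (congrArg (P.presheaf.germ W x hxW a • ·) hw.symm) ?_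
    have hspan : w ∈ Submodule.span (P.presheaf.stalk x)
        (Set.range fun m => OX.germM ((skN hU f N).X 0) U hxU (skn hU f N 0 m)) := by
      have h := span_germ_sgm hU (ModuleCat.of Γ(P, U) (N ⊗[Γ(P, U)] KW Γ(P, U) c 0)) hxU
      exact h.symm ▸ Submodule.mem_top
    clear hw
    show P.presheaf.germ W x hxW a • ((OX.stalk x).map (zπ (skN hU f N) 0)).hom w = 0
    induction hspan using Submodule.span_induction with
    | mem y hy =>
      obtain ⟨m, rfl⟩ := hy
      obtain ⟨n, rfl⟩ := (incl0_bijective (c := c) (U := U)).2 m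
      refine Eq.trans (congrArg (P.presheaf.germ W x hxW a • ·)
        (OX.stalkPre_map_germ (DCoh.toP.map (zπ (skN hU f N) 0)) U hxU _)) ?_
      show P.presheaf.germ W x hxW a • OX.germM (zO (skN hU f N) 0) U hxU (base0 hU f N n) = 0
      obtain ⟨t, ht, e⟩ : ∃ t, t ∈ Ideal.span (Set.range fun i => P.presheaf.germ U x hxU (f i)) ∧
          P.presheaf.germ W x hxW a = t := ⟨_, hf.gen W a ha x hxW hxU, rfl⟩
      rw [e]
      clear e
      induction ht using Submodule.span_induction with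
      | mem y hy =>
        obtain ⟨i, rfl⟩ := hy
        refine (OX.germ_smul' (DCoh.toP.obj (zO (skN hU f N) 0)) U hxU (f i) (base0 hU f N n)).symm.trans ?_
        refine Eq.trans (congrArg _ ?_) (map_zero _)
        show f i • base0 hU f N n = 0
        rw [← map_smul]
        exact ((base0_spec hU f N).2 _).2 (Submodule.smul_mem_smul (Ideal.subset_span ⟨i, rfl⟩) trivial)
      | zero => exact zero_smul _ _
      | add a b _ _ ha hb => rw [add_smul, ha, hb, add_zero]
      | smul t a _ ha => rw [smul_eq_mul, mul_smul, ha, smul_zero]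
    | zero => rw [map_zero, smul_zero]
    | add a b _ _ ha hb => rw [map_add, smul_add, ha, hb, add_zero]
    | smul r a _ ha => rw [map_smul, smul_comm, ha, smul_zero]
  · have h0 : IsZero ((OX.stalk x).obj (zO (skN hU f N) 0)) :=
      IsZero.of_epi ((OX.stalk x).map (zπ (skN hU f N) 0))
        (isZero_stalk_TU hU (ModuleCat.of Γ(P, U) (N ⊗[Γ(P, U)] KW Γ(P, U) c 0)) hxU)
    haveI := ModuleCat.subsingleton_of_isZero h0
    exact @Subsingleton.elim ((OX.stalk x).obj (zO (skN hU f N) 0)) _ _ _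

end GrothLib.FundIso27
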