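import Groth.Agent.Lib.RDerLES.LES

/-!
# The iterated connecting morphism of an exact complex

An exact complex `⋯ ⟶ K₁ ⟶ K₀` is cut into short exact sequences
`0 ⟶ Zᵢ₊₁ ⟶ Kᵢ ⟶ Zᵢ ⟶ 0` with `Zᵢ` the cokernel of `Kᵢ₊₁ ⟶ Kᵢ`; the connecting morphisms of a
derived functor compose to `R⁰F(Z₀) ⟶ RⁱF(Zᵢ)`, naturally in the complex.
-/

set_option autoImplicit false

universe v u v' u'

open CategoryTheory CategoryTheory.Limits

noncomputable section

namespace GrothLib.FundIso27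

variable {C : Type u} [Category.{v} C] [Abelian C] (K : ChainComplex C ℕ)

/-- `Zᵢ = coker (Kᵢ₊₁ ⟶ Kᵢ)`. -/
abbrev zO (i : ℕ) : C := cokernel (K.d (i + 1) i)

/-- The projection `Kᵢ ⟶ Zᵢ`. -/
abbrev zπ (i : ℕ) : K.X i ⟶ zO K i := cokernel.π (K.d (i + 1) i)

/-- `Zᵢ₊₁ ⟶ Kᵢ`. -/
def zι (i : ℕ) : zO K (i + 1) ⟶ K.X i := cokernel.desc _ (K.d (i + 1) i) (K.d_comp_d _ _ _)

@[reassoc (attr := simp)]
theorem zπ_ι (i : ℕ) : zπ K (i + 1) ≫ zι K i = K.d (i + 1) i := cokernel.π_desc _ _ _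

theorem zι_π (i : ℕ) : zι K i ≫ zπ K i = 0 := by
  rw [← cancel_epi (zπ K (i + 1)), zπ_ι_assoc, cokernel.condition, comp_zero]

/-- The short complex `Zᵢ₊₁ ⟶ Kᵢ ⟶ Zᵢ`. -/
@[simps]
def zSeq (i : ℕ) : ShortComplex C := ShortComplex.mk (zι K i) (zπ K i) (zι_π K i)

theorem shortExact_zSeq (hK : ∀ i, K.ExactAt (i + 1)) (i : ℕ) : (zSeq K i).ShortExact where
  exact := by
    let φ : ShortComplex.mk (K.d (i + 1) i) (zπ K i) (cokernel.condition _) ⟶ zSeq K i :=
      { τ₁ := zπ K (i + 1), τ₂ := 𝟙 _, τ₃ := 𝟙 _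
        comm₁₂ := (zπ_ι K i).trans (Category.comp_id _).symm
        comm₂₃ := (Category.id_comp _).trans (Category.comp_id _).symm }
    haveI : Epi φ.τ₁ := inferInstanceAs (Epi (cokernel.π _))
    haveI : IsIso φ.τ₂ := inferInstanceAs (IsIso (𝟙 _))
    haveI : Mono φ.τ₃ := inferInstanceAs (Mono (𝟙 _))
    exact (ShortComplex.exact_iff_of_epi_of_isIso_of_mono φ).1 (ShortComplex.exact_cokernel _)
  mono_f := by
    have h := (K.exactAt_iff' (i + 1 + 1) (i + 1) i (by simp) (by simp)).1 (hK i)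
    exact h.mono_cokernelDesc
  epi_g := inferInstanceAs (Epi (cokernel.π _))

theorem isIso_zπ_of_isZero (i : ℕ) (h : IsZero (K.X (i + 1))) : IsIso (zπ K i) := by
  haveI : Mono (zπ K i) :=
    (ShortComplex.exact_cokernel (K.d (i + 1) i)).mono_g (h.eq_of_src _ _)
  exact isIso_of_mono_of_epi _

variable {K} {K' : ChainComplex C ℕ} (φ : K ⟶ K')

/-- Functoriality of `Zᵢ`. -/
def zMap (i : ℕ) : zO K i ⟶ zO K' i :=
  cokernel.map _ _ (φ.f (i + 1)) (φ.f i) (φ.comm (i + 1) i).symm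

@[reassoc (attr := simp)]
theorem zπ_map (i : ℕ) : zπ K i ≫ zMap φ i = φ.f i ≫ zπ K' i := cokernel.π_desc _ _ _

theorem zι_map (i : ℕ) : zMap φ (i + 1) ≫ zι K' i = zι K i ≫ φ.f i := by
  rw [← cancel_epi (zπ K (i + 1)), zπ_map_assoc, zπ_ι, zπ_ι_assoc, φ.comm]

/-- The morphism of short complexes. -/
def zSeqMap (i : ℕ) : zSeq K i ⟶ zSeq K' i where
  τ₁ := zMap φ (i + 1)
  τ₂ := φ.f i
  τ₃ := zMap φ i
  comm₁₂ := zι_map φ i
  comm₂₃ := (zπ_map φ i).symm

section Derived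

variable [HasInjectiveResolutions C] {D : Type u'} [Category.{v'} D] [Abelian D] (F : C ⥤ D) [F.Additive]

/-- The connecting morphisms of `F`. -/
def les : RDer.DerivedLES F := (RDerLES.nonempty_derivedLES F).some

variable (K) in
/-- The iterated connecting morphism. -/
def iterδ (hK : ∀ i, K.ExactAt (i + 1)) : ∀ i : ℕ, (F.rightDerived 0).obj (zO K 0) ⟶ (F.rightDerived i).obj (zO K i)
  | 0 => 𝟙 _
  | i + 1 => iterδ hK i ≫ (les F).δ (zSeq K i) (shortExact_zSeq K hK i) i (i + 1) rfl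

theorem iterδ_natural (hK : ∀ i, K.ExactAt (i + 1)) (hK' : ∀ i, K'.ExactAt (i + 1)) : ∀ i : ℕ,
    (F.rightDerived 0).map (zMap φ 0) ≫ iterδ K' F hK' i = iterδ K F hK i ≫ (F.rightDerived i).map (zMap φ i)
  | 0 => by simp [iterδ]
  | i + 1 => by
    rw [iterδ, iterδ, ← Category.assoc, iterδ_natural hK hK' i, Category.assoc, Category.assoc]
    exact congrArg (iterδ K F hK i ≫ ·)
      ((les F).δ_natural (shortExact_zSeq K hK i) (shortExact_zSeq K' hK' i) (zSeqMap φ i) i (i + 1) rfl)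

variable {E : Type*} [Category E] [Abelian E] (R : D ⥤ E) [R.PreservesZeroMorphisms] [R.PreservesHomology]

theorem isIso_map_δ (hK : ∀ i, K.ExactAt (i + 1)) (i : ℕ)
    (h₀ : R.map ((F.rightDerived i).map (zπ K i)) = 0)
    (h₁ : R.map ((F.rightDerived (i + 1)).map (zι K i)) = 0) :
    IsIso (R.map ((les F).δ (zSeq K i) (shortExact_zSeq K hK i) i (i + 1) rfl)) := by
  have e₃ := ((les F).exact₃ (zSeq K i) (shortExact_zSeq K hK i) i (i + 1) rfl).map R
  have e₁ := ((les F).exact₁ (zSeq K i) (shortExact_zSeq K hK i) i (i + 1) rfl).map R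
  haveI : Mono (R.map ((les F).δ (zSeq K i) (shortExact_zSeq K hK i) i (i + 1) rfl)) := e₃.mono_g h₀
  haveI : Epi (R.map ((les F).δ (zSeq K i) (shortExact_zSeq K hK i) i (i + 1) rfl)) := e₁.epi_f h₁
  exact isIso_of_mono_of_epi _

/-- The iterated connecting morphism becomes an isomorphism after `R` if the intermediate terms vanish there. -/
theorem isIso_map_iterδ (hK : ∀ i, K.ExactAt (i + 1)) (c : ℕ)
    (hvan : ∀ p i : ℕ, i < c → p < c → IsZero (R.obj ((F.rightDerived p).obj (K.X i))))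
    (htop : ∀ i : ℕ, i + 1 = c → R.map ((F.rightDerived (i + 1)).map (zι K i)) = 0) :
    IsIso (R.map (iterδ K F hK c)) := by
  suffices h : ∀ i ≤ c, IsIso (R.map (iterδ K F hK i)) from h c le_rfl
  intro i
  induction i with
  | zero => intro _; rw [iterδ]; infer_instance
  | succ i ih =>
    intro hi
    haveI := ih (by omega)
    have hδ := isIso_map_δ F R hK i ((hvan i i (by omega) (by omega)).eq_of_src _ _) (by
      rcases (show i + 1 = c ∨ i + 1 < c by omega) with h | h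
      · exact htop i h
      · exact (hvan (i + 1) i (by omega) h).eq_of_tgt _ _)
    rw [iterδ, R.map_comp]
    exact @IsIso.comp_isIso _ _ _ _ _ _ _ (ih (by omega)) hδ

end Derived

end GrothLib.FundIso27
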