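import Groth.Agent.Lib.OX.ExtZeroOpen
import Groth.Agent.Lib.QCoh.FT
import Groth.Agent.Lib.InvExt.Gen
import Mathlib.AlgebraicGeometry.Modules.Tilde

/-!
# The left adjoint of the sections over an affine open
-/

set_option autoImplicit false
set_option maxHeartbeats 400000
set_option linter.style.haveILetI false
set_option backward.isDefEq.respectTransparency false

universe u

open CategoryTheory CategoryTheory.Limits AlgebraicGeometry Opposite TopologicalSpace
open GrothLib.InvExt (mres)

noncomputable section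

namespace GrothLib.FundIso27

variable {X : Scheme.{u}}

/-- Sections of a morphism, linearly. -/
def appL {N N' : X.Modules} (h : N ⟶ N') (U : X.Opens) : Γ(N, U) →ₗ[Γ(X, U)] Γ(N', U) where
  toFun x := h.app U x
  map_add' := map_add (h.app U).hom
  map_smul' r x := Scheme.Modules.Hom.app_smul h r x

theorem app_mres {N N' : X.Modules} (h : N ⟶ N') {U V : X.Opens} (hVU : V ≤ U) (x : Γ(N, U)) :
    h.app V (mres N hVU x) = mres N' hVU (h.app U x) :=
  ConcreteCategory.congr_hom (h.mapPresheaf.naturality (homOfLE hVU).op) x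

variable {U : X.Opens} (hU : IsAffineOpen U)

/-- `j_! ∘ tilde` for the affine open `U`. -/
def TU : ModuleCat.{u} Γ(X, U) ⥤ X.Modules := tilde.functor Γ(X, U) ⋙ CxOX.extZero hU.fromSpec

/-- Its right adjoint. -/
abbrev GU : X.Modules ⥤ ModuleCat.{u} Γ(X, U) :=
  Scheme.Modules.restrictFunctor hU.fromSpec ⋙ moduleSpecΓFunctor (R := Γ(X, U))

/-- The adjunction. -/
def adjT : TU hU ⊣ GU hU := tilde.adjunction.comp (CxOX.extZeroAdj hU.fromSpec)

/-- The right adjoint consists of the sections over `U`. -/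
def secU (N : X.Modules) : (GU hU).obj N ≃ₗ[Γ(X, U)] Γ(N, U) := QCoh.topLinearEquiv hU N

theorem secU_natural {N N' : X.Modules} (h : N ⟶ N') (x : (GU hU).obj N) :
    secU hU N' ((GU hU).map h x) = h.app U (secU hU N x) := by
  show QCoh.secIso hU N' ⊤ (QCoh.image_top hU) _ = h.app U (QCoh.secIso hU N ⊤ (QCoh.image_top hU) _)
  rw [QCoh.secIso_apply, QCoh.secIso_apply]
  exact (ConcreteCategory.congr_hom (h.mapPresheaf.naturality (eqToHom (QCoh.image_top hU).symm).op)
    ((N.restrictAppIso hU.fromSpec ⊤).hom x)).symm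

/-- The same, as an isomorphism. -/
def secI (N : X.Modules) : (GU hU).obj N ≅ ModuleCat.of Γ(X, U) Γ(N, U) := (secU hU N).toModuleIso

/-- The universal map `M ⟶ Γ(U, j_!M~)`. -/
def sgm (M : ModuleCat.{u} Γ(X, U)) : M →ₗ[Γ(X, U)] Γ((TU hU).obj M, U) :=
  (secU hU _).toLinearMap ∘ₗ ((adjT hU).unit.app M).hom

theorem sgm_natural {M M' : ModuleCat.{u} Γ(X, U)} (a : M ⟶ M') (x : M) :
    ((TU hU).map a).app U (sgm hU M x) = sgm hU M' (a x) := by
  show ((TU hU).map a).app U (secU hU _ ((adjT hU).unit.app M x)) = secU hU _ ((adjT hU).unit.app M' (a x))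
  rw [← secU_natural]
  exact congrArg (secU hU _) (ConcreteCategory.congr_hom ((adjT hU).unit.naturality a) x).symm

/-- The morphism out of `j_!M~` attached to a linear map into sections. -/
def liftT {M : ModuleCat.{u} Γ(X, U)} {N : X.Modules} (θ : M →ₗ[Γ(X, U)] Γ(N, U)) : (TU hU).obj M ⟶ N :=
  ((adjT hU).homEquiv M N).symm (ModuleCat.ofHom θ ≫ (secI hU N).inv)

theorem liftT_sgm {M : ModuleCat.{u} Γ(X, U)} {N : X.Modules} (θ : M →ₗ[Γ(X, U)] Γ(N, U)) (x : M) :
    (liftT hU θ).app U (sgm hU M x) = θ x := by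
  show (liftT hU θ).app U (secU hU _ ((adjT hU).unit.app M x)) = θ x
  rw [← secU_natural]
  have h := ((adjT hU).homEquiv M N).apply_symm_apply (ModuleCat.ofHom θ ≫ (secI hU N).inv)
  rw [Adjunction.homEquiv_unit] at h
  exact (congrArg (secU hU N) (ConcreteCategory.congr_hom h x)).trans ((secU hU N).apply_symm_apply (θ x))

theorem homT_ext {M : ModuleCat.{u} Γ(X, U)} {N : X.Modules} {h h' : (TU hU).obj M ⟶ N}
    (e : ∀ x : M, h.app U (sgm hU M x) = h'.app U (sgm hU M x)) : h = h' := by
  refine ((adjT hU).homEquiv M N).injective (ModuleCat.hom_ext (LinearMap.ext fun x => (secU hU N).injective ?_))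
  rw [Adjunction.homEquiv_unit, Adjunction.homEquiv_unit]
  refine (secU_natural hU h _).trans ((e x).trans (secU_natural hU h' _).symm)

theorem liftT_comp {M : ModuleCat.{u} Γ(X, U)} {N N' : X.Modules} (θ : M →ₗ[Γ(X, U)] Γ(N, U)) (h : N ⟶ N') :
    liftT hU θ ≫ h = liftT hU (appL h U ∘ₗ θ) := homT_ext hU fun x => by
  rw [liftT_sgm]
  show h.app U ((liftT hU θ).app U _) = h.app U (θ x)
  rw [liftT_sgm]

theorem map_liftT {M M' : ModuleCat.{u} Γ(X, U)} (a : M' ⟶ M) {N : X.Modules} (θ : M →ₗ[Γ(X, U)] Γ(N, U)) :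
    (TU hU).map a ≫ liftT hU θ = liftT hU (θ ∘ₗ a.hom) := homT_ext hU fun x => by
  rw [liftT_sgm]
  show (liftT hU θ).app U (((TU hU).map a).app U _) = θ (a x)
  rw [sgm_natural, liftT_sgm]

theorem isIso_unit (M : ModuleCat.{u} Γ(X, U)) : IsIso ((adjT hU).unit.app M) := by
  rw [adjT, Adjunction.comp_unit_app]
  infer_instance

theorem bijective_sgm (M : ModuleCat.{u} Γ(X, U)) : Function.Bijective (sgm hU M) := by
  haveI := isIso_unit hU M
  exact (secU hU _).bijective.comp (ConcreteCategory.bijective_of_isIso ((adjT hU).unit.app M))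

/-- `(j_! M~)|_U ≅ M~`. -/
def restrictTU : TU hU ⋙ Scheme.Modules.restrictFunctor hU.fromSpec ≅ tilde.functor Γ(X, U) :=
  Functor.associator _ _ _ ≪≫ Functor.isoWhiskerLeft _ (asIso (CxOX.extZeroAdj hU.fromSpec).unit).symm ≪≫
    (tilde.functor Γ(X, U)).rightUnitor

instance additive_TU : (TU hU).Additive :=
  haveI : (TU hU).IsLeftAdjoint := (adjT hU).isLeftAdjoint
  haveI : PreservesBinaryBiproducts (TU hU) := preservesBinaryBiproducts_of_preservesBinaryCoproducts _
  Functor.additive_of_preservesBinaryBiproducts _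

theorem exact_TU {S : ShortComplex (ModuleCat.{u} Γ(X, U))} (hS : S.Exact) :
    (S.map (TU hU)).Exact := by
  haveI : (CxOX.extZero hU.fromSpec).PreservesHomology := Functor.preservesHomologyOfExact _
  exact (hS.map (tilde.functor Γ(X, U))).map (CxOX.extZero hU.fromSpec)

theorem isZero_stalk_TU (M : ModuleCat.{u} Γ(X, U)) {x : X} (hx : x ∉ U) :
    IsZero ((OX.stalk x).obj ((TU hU).obj M)) :=
  OX.isZero_stalk_extZero hU.fromSpec _ x (by rw [hU.range_fromSpec]; exact hx)

theorem isIso_counit_tilde {R : CommRingCat.{u}} (G : (Spec R).Modules) [G.IsQuasicoherent] :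
    IsIso ((tilde.adjunction (R := R)).counit.app G) := by
  haveI := Scheme.Modules.isIso_fromTildeΓ_of_isQuasicoherent G
  exact (inferInstance : IsIso G.fromTildeΓ)

theorem isIso_restrict_comp {A B C : X.Modules} (a : A ⟶ B) (b : B ⟶ C) (ha : IsIso ((Scheme.Modules.restrictFunctor hU.fromSpec).map a))
    (hb : IsIso ((Scheme.Modules.restrictFunctor hU.fromSpec).map b)) : IsIso ((Scheme.Modules.restrictFunctor hU.fromSpec).map (a ≫ b)) := by
  rw [Functor.map_comp]; infer_instance

theorem isIso_restrict_counit (F : X.Modules) [F.IsQuasicoherent] :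
    IsIso ((Scheme.Modules.restrictFunctor hU.fromSpec).map ((adjT hU).counit.app F)) := by
  haveI : ((Scheme.Modules.restrictFunctor hU.fromSpec).obj F).IsQuasicoherent := inferInstance
  haveI := isIso_counit_tilde ((Scheme.Modules.restrictFunctor hU.fromSpec).obj F)
  have h1 : IsIso ((Scheme.Modules.restrictFunctor hU.fromSpec).map ((CxOX.extZero hU.fromSpec).map
      (tilde.adjunction.counit.app ((Scheme.Modules.restrictFunctor hU.fromSpec).obj F)))) := inferInstance
  have h2 := OX.isIso_restrict_epsZ hU.fromSpec F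
  have e : (adjT hU).counit.app F = (CxOX.extZero hU.fromSpec).map
      (tilde.adjunction.counit.app ((Scheme.Modules.restrictFunctor hU.fromSpec).obj F)) ≫ (CxOX.extZeroAdj hU.fromSpec).counit.app F :=
    Adjunction.comp_counit_app _ _ _
  exact e ▸ isIso_restrict_comp hU _ _ h1 h2

attribute [irreducible] TU sgm liftT

end GrothLib.FundIso27
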