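import Groth.Agent.Lib.FundIso27.Iter
import Groth.Agent.Lib.FundIso27.Alg
import Groth.Agent.Lib.FundIso27.Sect
import Groth.Agent.Lib.FundIso27.Ev
import Groth.Agent.Lib.OX.Exact

/-!
# The Koszul class of a local frame
-/

set_option autoImplicit false
set_option maxHeartbeats 800000
set_option linter.style.haveILetI false
set_option backward.isDefEq.respectTransparency false

universe u

open CategoryTheory CategoryTheory.Limits AlgebraicGeometry Opposite TopologicalSpace
open GrothLib.InvExt (mres)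

noncomputable section

namespace GrothLib.FundIso27

variable {P : Scheme.{u}}

theorem appL_apply {N N' : P.Modules} (h : N ⟶ N') (U : P.Opens) (x : Γ(N, U)) : appL h U x = h.app U x := rfl

theorem app_smul' {N N' : P.Modules} (h : N ⟶ N') {U : P.Opens} (r : Γ(P, U)) (x : Γ(N, U)) :
    h.app U (r • x) = r • h.app U x := Scheme.Modules.Hom.app_smul h r x

theorem comp_app' {N N' N'' : P.Modules} (h : N ⟶ N') (h' : N' ⟶ N'') (U : P.Opens) (x : Γ(N, U)) :
    (h ≫ h').app U x = h'.app U (h.app U x) := rfl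

variable {c : ℕ} {U : P.Opens} (hU : IsAffineOpen U)

/-- The stalks of `j_!M~` are generated by the sections of `M`. -/
theorem span_germ_sgm (M : ModuleCat.{u} Γ(P, U)) {x : P} (hx : x ∈ U) :
    Submodule.span (P.presheaf.stalk x)
      (Set.range fun m => OX.germM ((TU hU).obj M) U hx (sgm hU M m)) = ⊤ := by
  let S := Submodule.span (P.presheaf.stalk x)
      (Set.range fun m => OX.germM ((TU hU).obj M) U hx (sgm hU M m))
  let k : (OX.stalk x).obj ((TU hU).obj M) ⟶ ModuleCat.of (P.presheaf.stalk x) (_ ⧸ S) := ModuleCat.ofHom S.mkQ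
  have h0 : (OX.stalkSkyAdj x).homEquiv _ _ k = 0 := by
    refine homT_ext hU fun m => funext fun h => ?_
    show S.mkQ (OX.germM ((TU hU).obj M) U h.down (sgm hU M m)) = 0
    rw [Submodule.mkQ_apply, Submodule.Quotient.mk_eq_zero]
    exact Submodule.subset_span ⟨m, rfl⟩
  have hk : k = 0 := by
    refine ((OX.stalkSkyAdj x).homEquiv _ _).injective (h0.trans ?_)
    rw [Adjunction.homEquiv_unit, Functor.map_zero, comp_zero]
  refine eq_top_iff.2 fun e _ => ?_
  rw [← Submodule.Quotient.mk_eq_zero S]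
  exact LinearMap.congr_fun (congrArg ModuleCat.Hom.hom hk) e

variable (f : Fin c → Γ(P, U))

/-- The Koszul complex as a complex of sheaves. -/
def skx : ChainComplex P.Modules ℕ :=
  ((TU hU).mapHomologicalComplex (ComplexShape.down ℕ)).obj (kx f)

/-- The sections of the terms given by exterior products. -/
def sk (i : ℕ) : KW Γ(P, U) c i →ₗ[Γ(P, U)] Γ((skx hU f).X i, U) :=
  sgm hU (ModuleCat.of Γ(P, U) (KW Γ(P, U) c i))

theorem homK_ext {i : ℕ} {N : P.Modules} {h h' : (skx hU f).X i ⟶ N}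
    (e : ∀ x, h.app U (sk hU f i x) = h'.app U (sk hU f i x)) : h = h' := homT_ext hU e

theorem kx_d_apply (i : ℕ) (x : KW Γ(P, U) c (i + 1)) : (kx f).d (i + 1) i x = kd f i x :=
  ConcreteCategory.congr_hom (kx_d f i) x

theorem sk_d (i : ℕ) (x : KW Γ(P, U) c (i + 1)) :
    ((skx hU f).d (i + 1) i).app U (sk hU f (i + 1) x) = sk hU f i (kd f i x) :=
  (sgm_natural hU ((kx f).d (i + 1) i) x).trans (congrArg (sk hU f i) (kx_d_apply f i x))

theorem skx_exactAt (hf : RingTheory.Sequence.IsWeaklyRegular Γ(P, U) (List.ofFn f)) (i : ℕ) :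
    (skx hU f).ExactAt (i + 1) := by
  rw [HomologicalComplex.exactAt_iff' _ (i + 1 + 1) (i + 1) i (by simp) (by simp)]
  exact exact_TU hU (((kx f).exactAt_iff' (i + 1 + 1) (i + 1) i (by simp) (by simp)).1 (kx_exactAt f hf i))

theorem isZero_skx (i : ℕ) (h : c < i) : IsZero ((skx hU f).X i) :=
  haveI := subsingleton_KW (A := Γ(P, U)) h
  (TU hU).map_isZero (ModuleCat.isZero_of_subsingleton (ModuleCat.of Γ(P, U) (KW Γ(P, U) c i)))

/-- The generating section of the last term. -/
def z0 : Γ(zO (skx hU f) 0, U) :=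
  (zπ (skx hU f) 0).app U (sk hU f 0 ((exteriorPower.zeroEquiv Γ(P, U) (Fin c → Γ(P, U))).symm 1))

/-- The morphism from the top term given by a section. -/
def sT {N : P.Modules} (s : Γ(N, U)) : (skx hU f).X c ⟶ N :=
  liftT hU (M := ModuleCat.of Γ(P, U) (KW Γ(P, U) c c))
    (LinearMap.toSpanSingleton Γ(P, U) Γ(N, U) s ∘ₗ topEquiv.symm.toLinearMap)

theorem sT_sgm {N : P.Modules} (s : Γ(N, U)) (x : KW Γ(P, U) c c) :
    (sT hU f s).app U (sk hU f c x) = topEquiv.symm x • s :=
  (liftT_sgm hU (M := ModuleCat.of Γ(P, U) (KW Γ(P, U) c c))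
    (LinearMap.toSpanSingleton Γ(P, U) Γ(N, U) s ∘ₗ topEquiv.symm.toLinearMap) x).trans
      (LinearMap.toSpanSingleton_apply _ _ _ _)

theorem sT_ktop {N : P.Modules} (s : Γ(N, U)) :
    (sT hU f s).app U (sk hU f c (ktop Γ(P, U) c)) = s := by
  rw [sT_sgm, ← topEquiv_one, LinearEquiv.symm_apply_apply, one_smul]

/-- The same on the last cokernel. -/
def topMap {N : P.Modules} (s : Γ(N, U)) : zO (skx hU f) c ⟶ N :=
  cokernel.desc _ (sT hU f s) ((isZero_skx hU f (c + 1) (Nat.lt_succ_self c)).eq_of_src _ _)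

theorem zπ_topMap {N : P.Modules} (s : Γ(N, U)) : zπ (skx hU f) c ≫ topMap hU f s = sT hU f s :=
  cokernel.π_desc _ _ _

theorem sT_add {N : P.Modules} (s s' : Γ(N, U)) : sT hU f (s + s') = sT hU f s + sT hU f s' :=
  homK_ext hU f fun x => by
    show _ = (sT hU f s).app U _ + (sT hU f s').app U _
    rw [sT_sgm, sT_sgm, sT_sgm, smul_add]

theorem topMap_add {N : P.Modules} (s s' : Γ(N, U)) : topMap hU f (s + s') = topMap hU f s + topMap hU f s' := by
  rw [← cancel_epi (zπ (skx hU f) c), Preadditive.comp_add, zπ_topMap, zπ_topMap, zπ_topMap, sT_add]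

theorem sT_comp {N N' : P.Modules} (s : Γ(N, U)) (h : N ⟶ N') : sT hU f s ≫ h = sT hU f (h.app U s) :=
  homK_ext hU f fun x => by
    show h.app U ((sT hU f s).app U _) = _
    rw [sT_sgm, sT_sgm, app_smul']

theorem topMap_comp {N N' : P.Modules} (s : Γ(N, U)) (h : N ⟶ N') : topMap hU f s ≫ h = topMap hU f (h.app U s) := by
  rw [← cancel_epi (zπ (skx hU f) c), ← Category.assoc, zπ_topMap, zπ_topMap, sT_comp]

variable {M : P.Modules} (q : Coh.structureModule P ⟶ M)

/-- A regular frame of the kernel of `q` over `U`. -/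
structure IsRFrame : Prop where
  regular : RingTheory.Sequence.IsWeaklyRegular Γ(P, U) (List.ofFn f)
  mem : ∀ i, q.app U (f i) = 0
  gen : ∀ (W : P.Opens) (a : Γ(P, W)), q.app W a = 0 → ∀ (x : P) (hxW : x ∈ W) (hxU : x ∈ U),
    P.presheaf.germ W x hxW a ∈ Ideal.span (Set.range fun i => P.presheaf.germ U x hxU (f i))

variable {f} {q}

theorem smul_z0 (i : Fin c) : f i • z0 hU f = 0 := by
  rw [z0, ← app_smul', ← map_smul]
  obtain ⟨y, hy⟩ : f i ∈ LinearMap.range
      ((exteriorPower.zeroEquiv Γ(P, U) (Fin c → Γ(P, U))).toLinearMap ∘ₗ kd f 0) := by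
    rw [range_kd_zero]; exact Ideal.subset_span ⟨i, rfl⟩
  have hy' : kd f 0 y = f i • (exteriorPower.zeroEquiv Γ(P, U) (Fin c → Γ(P, U))).symm 1 := by
    rw [← map_smul, LinearEquiv.eq_symm_apply, smul_eq_mul, mul_one]
    exact hy
  rw [← hy', ← sk_d, ← comp_app', cokernel.condition]
  rfl

/-- The germs of `z0` generate. -/
theorem germ_z0_gen {x : P} (hxU : x ∈ U) (e : OX.stalkObj x (DCoh.toP.obj (zO (skx hU f) 0))) :
    ∃ r : P.presheaf.stalk x, r • OX.germM (zO (skx hU f) 0) U hxU (z0 hU f) = e := by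
  haveI : Epi ((OX.stalk x).map (zπ (skx hU f) 0)) := inferInstance
  obtain ⟨w, rfl⟩ := (ModuleCat.epi_iff_surjective ((OX.stalk x).map (zπ (skx hU f) 0))).1 inferInstance e
  have hw : w ∈ Submodule.span (P.presheaf.stalk x)
      (Set.range fun m => OX.germM ((skx hU f).X 0) U hxU (sk hU f 0 m)) := by
    have h := span_germ_sgm hU (ModuleCat.of Γ(P, U) (KW Γ(P, U) c 0)) hxU
    exact h.symm ▸ Submodule.mem_top
  induction hw using Submodule.span_induction with
  | mem y hy =>
    obtain ⟨m, rfl⟩ := hy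
    obtain ⟨a, rfl⟩ := (exteriorPower.zeroEquiv Γ(P, U) (Fin c → Γ(P, U))).symm.surjective m
    refine ⟨P.presheaf.germ U x hxU a, ?_⟩
    refine Eq.trans ?_ (OX.stalkPre_map_germ (DCoh.toP.map (zπ (skx hU f) 0)) U hxU _).symm
    refine (OX.germ_smul' (DCoh.toP.obj (zO (skx hU f) 0)) U hxU a _).symm.trans (congrArg _ ?_)
    show a • (zπ (skx hU f) 0).app U _ = (zπ (skx hU f) 0).app U _
    rw [← app_smul', ← map_smul, ← map_smul, smul_eq_mul, mul_one]
  | zero => exact ⟨0, by rw [zero_smul]; exact (map_zero _).symm⟩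
  | add a b _ _ ha hb =>
    obtain ⟨r, hr⟩ := ha
    obtain ⟨r', hr'⟩ := hb
    exact ⟨r + r', by rw [add_smul, hr, hr']; exact (map_add _ _ _).symm⟩
  | smul r a _ ha =>
    obtain ⟨r', hr'⟩ := ha
    exact ⟨r * r', by rw [mul_smul, hr']; exact (map_smul _ _ _).symm⟩

/-- The last cokernel is killed by the kernel of `q`. -/
theorem zO_killed (hf : IsRFrame f q) (W : P.Opens) (a : Γ(P, W)) (ha : q.app W a = 0)
    (z : Γ(zO (skx hU f) 0, W)) : a • z = 0 := by
  refine OX.section_eq_zero (a • z) fun x hxW => ?_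
  by_cases hxU : x ∈ U
  · refine (OX.germ_smul' (DCoh.toP.obj (zO (skx hU f) 0)) W hxW a z).trans ?_
    obtain ⟨r, hr⟩ := germ_z0_gen hU (f := f) hxU (OX.germM (zO (skx hU f) 0) W hxW z)
    refine Eq.trans (congrArg (P.presheaf.germ W x hxW a • ·) hr.symm) ?_
    show P.presheaf.germ W x hxW a • r • OX.germM (zO (skx hU f) 0) U hxU (z0 hU f) = 0
    obtain ⟨t, ht, e⟩ : ∃ t, t ∈ Ideal.span (Set.range fun i => P.presheaf.germ U x hxU (f i)) ∧
        P.presheaf.germ W x hxW a = t := ⟨_, hf.gen W a ha x hxW hxU, rfl⟩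
    rw [e]
    clear e
    induction ht using Submodule.span_induction with
    | mem y hy =>
      obtain ⟨i, rfl⟩ := hy
      rw [← mul_smul, mul_comm, mul_smul]
      refine Eq.trans (congrArg (r • ·) ?_) (smul_zero r)
      refine (OX.germ_smul' (DCoh.toP.obj (zO (skx hU f) 0)) U hxU (f i) (z0 hU f)).symm.trans ?_
      exact (congrArg _ (smul_z0 hU i)).trans (map_zero _)
    | zero => exact zero_smul _ _
    | add a b _ _ ha hb => rw [add_smul, ha, hb, add_zero]
    | smul t a _ ha => rw [smul_eq_mul, mul_smul, ha, smul_zero]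
  · have h0 : IsZero ((OX.stalk x).obj (zO (skx hU f) 0)) := by
      haveI : Epi ((OX.stalk x).map (zπ (skx hU f) 0)) := inferInstance
      exact IsZero.of_epi ((OX.stalk x).map (zπ (skx hU f) 0))
        (isZero_stalk_TU hU (ModuleCat.of Γ(P, U) (KW Γ(P, U) c 0)) hxU)
    haveI := ModuleCat.subsingleton_of_isZero h0
    exact @Subsingleton.elim ((OX.stalk x).obj (zO (skx hU f) 0)) _ _ _

section Class

variable [ModSite.HasSheafHom (O := P.sheaf) M] [HasInjectiveResolutions P.Modules] [Epi q]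

theorem isIso_ev_z0 (hf : IsRFrame f q) : IsIso ((evM q).app (zO (skx hU f) 0)) :=
  isIso_ev q _ (zO_killed hU hf)

/-- The canonical section of `ℰxt⁰(M, Z₀)`. -/
def sig (hf : IsRFrame f q) : Γ(((homM M).rightDerived 0).obj (zO (skx hU f) 0), U) :=
  haveI := isIso_ev_z0 hU hf
  ((homM M).toRightDerivedZero.app (zO (skx hU f) 0)).app U ((inv ((evM q).app (zO (skx hU f) 0))).app U (z0 hU f))

/-- The Koszul class. -/
def tcls (hf : IsRFrame f q) : Γ(((homM M).rightDerived c).obj (zO (skx hU f) c), U) :=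
  (iterδ (skx hU f) (homM M) (skx_exactAt hU f hf.regular) c).app U (sig hU hf)

/-- The class of a frame and a section. -/
def kcls (hf : IsRFrame f q) {N : P.Modules} (s : Γ(N, U)) : Γ(((homM M).rightDerived c).obj N, U) :=
  (((homM M).rightDerived c).map (topMap hU f s)).app U (tcls hU hf)

theorem kcls_add (hf : IsRFrame f q) {N : P.Modules} (s s' : Γ(N, U)) :
    kcls hU hf (s + s') = kcls hU hf s + kcls hU hf s' := by
  rw [kcls, topMap_add, Functor.map_add]
  rfl

theorem kcls_natural (hf : IsRFrame f q) {N N' : P.Modules} (s : Γ(N, U)) (h : N ⟶ N') :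
    (((homM M).rightDerived c).map h).app U (kcls hU hf s) = kcls hU hf (h.app U s) := by
  rw [kcls, kcls, ← comp_app', ← Functor.map_comp, topMap_comp]

/-- The class is natural in morphisms of Koszul complexes. -/
theorem kcls_hom {V : P.Opens} (hV : IsAffineOpen V) {g : Fin c → Γ(P, V)} (hVU : V ≤ U)
    (hf : IsRFrame f q) (hg : IsRFrame g q) (φ : skx hV g ⟶ skx hU f) (b : Γ(P, V))
    (hbot : (zMap φ 0).app V (z0 hV g) = b • mres (zO (skx hU f) 0) hVU (z0 hU f))
    {N : P.Modules} (s : Γ(N, U)) (s' : Γ(N, V)) (htop : φ.f c ≫ sT hU f s = sT hV g s') :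
    kcls hV hg s' = b • mres (((homM M).rightDerived c).obj N) hVU (kcls hU hf s) := by
  haveI := isIso_ev_z0 hU hf
  haveI := isIso_ev_z0 hV hg
  have htop' : zMap φ c ≫ topMap hU f s = topMap hV g s' := by
    rw [← cancel_epi (zπ (skx hV g) c), zπ_map_assoc, zπ_topMap, zπ_topMap, htop]
  have hσ : (((homM M).rightDerived 0).map (zMap φ 0)).app V (sig hV hg) =
      b • mres (((homM M).rightDerived 0).obj (zO (skx hU f) 0)) hVU (sig hU hf) := by
    rw [sig, sig, ← app_mres, ← app_smul', ← comp_app', ← (homM M).toRightDerivedZero.naturality, comp_app']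
    refine congrArg _ ?_
    rw [← app_mres, ← app_smul', ← comp_app']
    refine Eq.trans ?_ (congrArg _ hbot)
    refine Eq.trans ?_ (comp_app' _ _ _ _)
    refine congrArg (fun k : zO (skx hV g) 0 ⟶ (homM M).obj (zO (skx hU f) 0) => k.app V (z0 hV g)) ?_
    rw [IsIso.eq_comp_inv, Category.assoc, IsIso.inv_comp_eq]
    exact (evM q).naturality (zMap φ 0)
  rw [kcls, kcls, ← app_mres, ← app_smul', ← htop', Functor.map_comp, comp_app']
  refine congrArg _ ?_
  rw [tcls, tcls, ← app_mres, ← app_smul', ← hσ, ← comp_app', ← comp_app', iterδ_natural]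

end Class

end GrothLib.FundIso27
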