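import Groth.Agent.Lib.FundIso27.Flat
import Groth.Agent.Lib.SerrePn27.Asymp

/-!
# The class map on an affine open with a frame
-/

set_option autoImplicit false
set_option maxHeartbeats 1600000
set_option linter.style.haveILetI false
set_option backward.isDefEq.respectTransparency false

universe u

open CategoryTheory CategoryTheory.Limits AlgebraicGeometry Opposite TopologicalSpace TensorProduct

noncomputable section

namespace GrothLib.FundIso27

variable {P : Scheme.{u}} {U : P.Opens} (hU : IsAffineOpen U) {c : ℕ} {f : Fin c → Γ(P, U)}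
  {M : P.Modules} {q : Coh.structureModule P ⟶ M}

/-- A frame over an affine open, with the sections of the quotient known there. -/
structure IsLFrame (f : Fin c → Γ(P, U)) (q : Coh.structureModule P ⟶ M) : Prop extends IsRFrame f q where
  surj : Function.Surjective (q.app U)
  ker : ∀ a, q.app U a = 0 → a ∈ Ideal.span (Set.range f)

theorem exists_secIso (hf : IsLFrame f q) :
    Nonempty (ExtTilde20.secMod (U := U) M ≅
      ModuleCat.of Γ(P, U) (Γ(P, U) ⧸ Ideal.ofList (List.ofFn f))) := by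
  let l : Γ(P, U) →ₗ[Γ(P, U)] Γ(M, U) :=
    { toFun := fun a => q.app U a
      map_add' := map_add (q.app U).hom
      map_smul' := fun r a => Scheme.Modules.Hom.app_smul q r a }
  have hker : LinearMap.ker l = Ideal.ofList (List.ofFn f) := by
    have e : Ideal.ofList (List.ofFn f) = Ideal.span (Set.range f) := by
      rw [Ideal.ofList]; congr 1; ext x; simp [List.mem_ofFn, Set.mem_range]
    rw [e]
    refine le_antisymm (fun a ha => hf.ker a ha) ?_
    rw [Ideal.span, Submodule.span_le]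
    rintro _ ⟨i, rfl⟩
    exact hf.mem i
  exact ⟨((Submodule.quotEquivOfEq _ _ hker.symm) ≪≫ₗ l.quotKerEquivOfSurjective hf.surj).symm.toModuleIso⟩

theorem finite_sections (hf : IsLFrame f q) : Module.Finite Γ(P, U) Γ(M, U) :=
  Module.Finite.of_surjective
    ({ toFun := fun a => q.app U a
       map_add' := map_add (q.app U).hom
       map_smul' := fun r a => Scheme.Modules.Hom.app_smul q r a } : Γ(P, U) →ₗ[Γ(P, U)] Γ(M, U)) hf.surj

theorem ext_below (hf : IsLFrame f q) (N : ModuleCat.{u} Γ(P, U)) [Module.Flat Γ(P, U) N] (p : ℕ) (hp : p < c) :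
    Subsingleton (Abelian.Ext (ExtTilde20.secMod (U := U) M) N p) := by
  obtain ⟨e⟩ := exists_secIso hf
  rw [SerrePn27.subsingleton_ext_iff_of_iso e (Iso.refl N)]
  refine subsingleton_ext_of_weaklyRegular _ (List.ofFn f) N (fun r hr => ?_)
    (isWeaklyRegular_of_flat N _ hf.regular) p (by simpa using hp)
  rw [Ideal.annihilator_quotient]
  exact Ideal.subset_span hr

theorem ext_above (hf : IsLFrame f q) (N : ModuleCat.{u} Γ(P, U)) (p : ℕ) (hp : c < p) :
    Subsingleton (Abelian.Ext (ExtTilde20.secMod (U := U) M) N p) := by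
  obtain ⟨e⟩ := exists_secIso hf
  rw [SerrePn27.subsingleton_ext_iff_of_iso e (Iso.refl N)]
  exact subsingleton_ext_quotient_above _ hf.regular N p (by simpa using hp)

/-- A component of the differential. -/
def hcomp (i : ℕ) (j : Fin c) : KW Γ(P, U) c (i + 1) →ₗ[Γ(P, U)] KW Γ(P, U) c i :=
  kd (Pi.basisFun Γ(P, U) (Fin c) j) i

theorem pv_basisFun (j : Fin c) (v : Fin c → Γ(P, U)) : pv (Pi.basisFun Γ(P, U) (Fin c) j) v = v j := by
  simp [pv_apply, Pi.basisFun_apply, Pi.single_apply]

theorem kd_eq_sum (g : Fin c → Γ(P, U)) (i : ℕ) : kd g i = ∑ j, g j • hcomp i j := by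
  refine exteriorPower.linearMap_ext (AlternatingMap.ext fun v => ?_)
  show kd g i (exteriorPower.ιMulti Γ(P, U) (i + 1) v) =
    (∑ j, g j • hcomp i j) (exteriorPower.ιMulti Γ(P, U) (i + 1) v)
  rw [LinearMap.sum_apply, kd_ιMulti]
  simp only [LinearMap.smul_apply, hcomp, kd_ιMulti, pv_basisFun, Finset.smul_sum, smul_smul]
  rw [Finset.sum_comm]
  refine Finset.sum_congr rfl fun p _ => ?_
  rw [pv_apply, Finset.mul_sum, Finset.sum_smul]
  exact Finset.sum_congr rfl fun j _ => by ring_nf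

variable (f) in
/-- The inclusion `K ⟶ N ⊗ K` at an element. -/
def kinc {N : Type u} [AddCommGroup N] [Module Γ(P, U) N] (n : N) : kx f ⟶ kxN N f where
  f i := ModuleCat.ofHom (TensorProduct.mk Γ(P, U) N (KW Γ(P, U) c i) n)
  comm' i j hij := by
    obtain rfl : j + 1 = i := hij
    rw [kx_d, kxN_d]
    exact ModuleCat.hom_ext (LinearMap.ext fun x => LinearMap.lTensor_tmul _ _ _ _)

variable (f) in
/-- The same for sheaves. -/
def skinc {N : Type u} [AddCommGroup N] [Module Γ(P, U) N] (n : N) : skx hU f ⟶ skN hU f N :=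
  ((TU hU).mapHomologicalComplex (ComplexShape.down ℕ)).map (kinc f n)

theorem skinc_sk {N : Type u} [AddCommGroup N] [Module Γ(P, U) N] (n : N) (i : ℕ) (x : KW Γ(P, U) c i) :
    ((skinc hU f n).f i).app U (sk hU f i x) = skn hU f N i (n ⊗ₜ x) :=
  sgm_natural hU ((kinc f n).f i) x

theorem zMap_skinc_z0 {N : Type u} [AddCommGroup N] [Module Γ(P, U) N] (n : N) :
    (zMap (skinc hU f n) 0).app U (z0 hU f) = base0 hU f N n := by
  rw [z0, ← comp_app', zπ_map, comp_app']
  exact congrArg _ (skinc_sk hU n 0 one0)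

/-- `N ⊗ K_c ≅ N`. -/
def topN (N : Type u) [AddCommGroup N] [Module Γ(P, U) N] :
    (N ⊗[Γ(P, U)] KW Γ(P, U) c c) ≃ₗ[Γ(P, U)] N :=
  LinearEquiv.lTensor N (topEquiv (A := Γ(P, U)) (c := c)).symm ≪≫ₗ TensorProduct.rid Γ(P, U) N

variable (f) in
/-- The last cokernel with coefficients. -/
def topθ (N : Type u) [AddCommGroup N] [Module Γ(P, U) N] :
    zO (skN hU f N) c ⟶ (TU hU).obj (ModuleCat.of Γ(P, U) N) :=
  cokernel.desc _ ((TU hU).map (topN (c := c) (U := U) N).toModuleIso.hom)
    ((isZero_skN hU f N (c + 1) (Nat.lt_succ_self c)).eq_of_src _ _)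

theorem isIso_topθ (N : Type u) [AddCommGroup N] [Module Γ(P, U) N] : IsIso (topθ hU f N) := by
  haveI := isIso_zπ_of_isZero (skN hU f N) c (isZero_skN hU f N (c + 1) (Nat.lt_succ_self c))
  have h : zπ (skN hU f N) c ≫ topθ hU f N = (TU hU).map (topN (c := c) (U := U) N).toModuleIso.hom := cokernel.π_desc _ _ _
  haveI : IsIso (zπ (skN hU f N) c ≫ topθ hU f N) := by rw [h]; infer_instance
  exact IsIso.of_isIso_comp_left (zπ (skN hU f N) c) _

theorem topMap_sgm (N : Type u) [AddCommGroup N] [Module Γ(P, U) N] (n : N) :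
    topMap hU f (sgm hU (ModuleCat.of Γ(P, U) N) n) = zMap (skinc hU f n) c ≫ topθ hU f N := by
  rw [← cancel_epi (zπ (skx hU f) c), zπ_topMap, zπ_map_assoc]
  refine homTop_ext hU f ?_
  rw [sT_ktop, comp_app', skinc_sk, topθ, cokernel.π_desc]
  refine Eq.trans ?_ (sgm_natural hU (topN (c := c) (U := U) N).toModuleIso.hom (n ⊗ₜ ktop Γ(P, U) c)).symm
  refine congrArg _ ?_
  show n = topN (c := c) (U := U) N (n ⊗ₜ ktop Γ(P, U) c)
  rw [topN, LinearEquiv.trans_apply, LinearEquiv.lTensor_tmul, TensorProduct.rid_tmul, ← topEquiv_one,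
    LinearEquiv.symm_apply_apply, one_smul]

variable [ModSite.HasSheafHom (O := P.sheaf) M] [HasInjectiveResolutions P.Modules] [Epi q]
  [IsNoetherianRing Γ(P, U)] [M.IsQuasicoherent]

theorem map_derived_d_eq_zero (hf : IsLFrame f q) (N : Type u) [AddCommGroup N] [Module Γ(P, U) N] (i p : ℕ) :
    (Rres hU).map (((homM M).rightDerived p).map ((skN hU f N).d (i + 1) i)) = 0 := by
  let Φ := TU hU ⋙ (homM M).rightDerived p ⋙ Rres hU
  show Φ.map ((kxN N f).d (i + 1) i) = 0
  rw [kxN_d, kd_eq_sum]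
  have e : ModuleCat.ofHom ((∑ j, f j • hcomp i j).lTensor N) =
      ∑ j, ModuleCat.ofHom ((hcomp i j).lTensor N) ≫
        ModuleCat.ofHom (f j • LinearMap.id : (N ⊗[Γ(P, U)] KW Γ(P, U) c i) →ₗ[Γ(P, U)] _) := by
    refine ModuleCat.hom_ext (TensorProduct.ext' fun n x => ?_)
    simp only [ModuleCat.hom_sum, ModuleCat.hom_comp, ModuleCat.hom_ofHom, LinearMap.sum_apply, LinearMap.comp_apply,
      LinearMap.lTensor_tmul, LinearMap.smul_apply, LinearMap.id_apply, TensorProduct.tmul_sum, TensorProduct.tmul_smul]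
  refine (congrArg Φ.map e).trans ?_
  rw [Functor.map_sum]
  refine Finset.sum_eq_zero fun j _ => ?_
  rw [Functor.map_comp]
  refine Eq.trans (congrArg (Φ.map _ ≫ ·) ?_) comp_zero
  exact map_derived_smul_eq_zero hU q (f j) (hf.mem j) (ModuleCat.of Γ(P, U) (N ⊗[Γ(P, U)] KW Γ(P, U) c i)) p

theorem isIso_map_iterδ_skN (hf : IsLFrame f q) (N : Type u) [AddCommGroup N] [Module Γ(P, U) N]
    [Module.Flat Γ(P, U) N] :
    IsIso ((Rres hU).map (iterδ (skN hU f N) (homM M) (skN_exactAt hU f N hf.regular) c)) := by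
  haveI := finite_sections hf
  refine isIso_map_iterδ (homM M) (Rres hU) (skN_exactAt hU f N hf.regular) c (fun p i hi hp => ?_) (fun i hi => ?_)
  · haveI : Module.Free Γ(P, U) (KW Γ(P, U) c i) := Module.Free.of_basis ((Pi.basisFun Γ(P, U) (Fin c)).exteriorPower i)
    exact isZero_derived_TU hU (ModuleCat.of Γ(P, U) (N ⊗[Γ(P, U)] KW Γ(P, U) c i)) p
      (ext_below hf (ModuleCat.of Γ(P, U) (N ⊗[Γ(P, U)] KW Γ(P, U) c i)) p hp)
  · haveI := isIso_zπ_of_isZero (skN hU f N) (i + 1) (isZero_skN hU f N (i + 1 + 1) (by omega))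
    have h := map_derived_d_eq_zero hU hf N i (i + 1)
    rw [← zπ_ι, Functor.map_comp, Functor.map_comp] at h
    exact (cancel_epi ((Rres hU).map (((homM M).rightDerived (i + 1)).map (zπ (skN hU f N) (i + 1))))).1
      (h.trans comp_zero.symm)

theorem kcls_flat (hf : IsLFrame f q) (N : Type u) [AddCommGroup N] [Module Γ(P, U) N] [Module.Flat Γ(P, U) N] :
    Function.Surjective (fun n : N => kcls hU hf.toIsRFrame (sgm hU (ModuleCat.of Γ(P, U) N) n)) ∧
      ∀ n : N, kcls hU hf.toIsRFrame (sgm hU (ModuleCat.of Γ(P, U) N) n) = 0 →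
        n ∈ (Ideal.span (Set.range f) • ⊤ : Submodule Γ(P, U) N) := by
  haveI : IsIso ((evM q).app (zO (skN hU f N) 0)) := isIso_ev q _ (skN_killed hU f N hf.toIsRFrame)
  haveI := isIso_ev_z0 hU hf.toIsRFrame
  haveI := isIso_topθ hU (f := f) N
  haveI : PreservesLimitsOfSize.{0, 0} (homM M) := (ModSite.sheafHomAdj (O := P.sheaf) M).rightAdjoint_preservesLimits
  let Φ : zO (skN hU f N) 0 ⟶ ((homM M).rightDerived c).obj ((TU hU).obj (ModuleCat.of Γ(P, U) N)) :=
    inv ((evM q).app (zO (skN hU f N) 0)) ≫ (homM M).toRightDerivedZero.app _ ≫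
      iterδ (skN hU f N) (homM M) (skN_exactAt hU f N hf.regular) c ≫
      ((homM M).rightDerived c).map (topθ hU f N)
  have hΦ : IsIso ((Rres hU).map Φ) := by
    haveI := isIso_map_iterδ_skN hU hf N
    simp only [Φ, Functor.map_comp]
    infer_instance
  have key : ∀ n : N, kcls hU hf.toIsRFrame (sgm hU (ModuleCat.of Γ(P, U) N) n) = Φ.app U (base0 hU f N n) := by
    intro n
    have h1 := congrArg (fun k : ((homM M).rightDerived 0).obj (zO (skx hU f) 0) ⟶ _ => k.app U (sig hU hf.toIsRFrame))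
      (iterδ_natural (skinc hU f n) (homM M) (skx_exactAt hU f hf.regular) (skN_exactAt hU f N hf.regular) c)
    rw [kcls, topMap_sgm, Functor.map_comp, comp_app', tcls]
    refine (congrArg _ h1.symm).trans ?_
    simp only [Φ, comp_app']
    refine congrArg _ (congrArg _ ?_)
    rw [sig, ← zMap_skinc_z0, ← comp_app', ← (homM M).toRightDerivedZero.naturality, comp_app']
    refine congrArg _ ?_
    rw [← comp_app', ← comp_app']
    refine congrArg (fun k : zO (skx hU f) 0 ⟶ (homM M).obj (zO (skN hU f N) 0) => k.app U (z0 hU f)) ?_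
    rw [IsIso.eq_comp_inv, Category.assoc, IsIso.inv_comp_eq]
    exact (evM q).naturality (zMap (skinc hU f n) 0)
  have hb := app_bijective_of_isIso_restrict hU Φ hΦ
  refine ⟨fun y => ?_, fun n hn => ?_⟩
  · obtain ⟨z, rfl⟩ := hb.2 y
    obtain ⟨n, rfl⟩ := (base0_spec hU f N).1 z
    exact ⟨n, key n⟩
  · refine ((base0_spec hU f N).2 n).1 (hb.1 ?_)
    rw [map_zero, ← key, hn]

theorem kcls_ker_of_mem (hf : IsLFrame f q) {F : P.Modules} {s : Γ(F, U)}
    (hs : s ∈ (Ideal.span (Set.range f) • ⊤ : Submodule Γ(P, U) Γ(F, U))) :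
    kcls hU hf.toIsRFrame s = 0 := by
  induction hs using Submodule.smul_induction_on' with
  | smul a ha t _ =>
    rw [kcls_smul]
    have hz : a • z0 hU f = 0 := by
      induction ha using Submodule.span_induction with
      | mem y hy => obtain ⟨i, rfl⟩ := hy; exact smul_z0 hU i
      | zero => exact zero_smul _ _
      | add a b _ _ ha hb => rw [add_smul, ha, hb, add_zero]
      | smul r a _ ha => rw [smul_eq_mul, mul_smul, ha, smul_zero]
    rw [kcls, ← app_smul', tcls, ← app_smul', sig, ← app_smul', ← app_smul', hz]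
    simp only [map_zero]
  | add a _ b _ ha hb => rw [kcls_add, ha, hb, add_zero]

theorem isQuasicoherent_restrict_derived (hf : IsLFrame f q) (W : P.Modules) (N : ModuleCat.{u} Γ(P, U))
    (eW : (Rres hU).obj W ≅ (tilde.functor Γ(P, U)).obj N) (p : ℕ) :
    ((Rres hU).obj (((homM M).rightDerived p).obj W)).IsQuasicoherent := by
  haveI := finite_sections hf
  haveI := ExtTilde20.hasInjectiveResolutions_mod (Spec Γ(P, U))
  haveI := SheafCoh.hasSheafHom (Spec Γ(P, U)).sheaf ((Rres hU).obj M)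
  haveI := SheafCoh.hasSheafHom (Spec Γ(P, U)).sheaf ((tilde.functor Γ(P, U)).obj (ExtTilde20.secMod (U := U) M))
  haveI : Module.Finite Γ(P, U) (ExtTilde20.secMod (U := U) M) := inferInstanceAs (Module.Finite Γ(P, U) Γ(M, U))
  obtain ⟨a⟩ := ExtTilde20.nonempty_extSh_tilde_iso (ExtTilde20.secMod (U := U) M) N p
  haveI : ((tilde.functor Γ(P, U)).obj
      (ModuleCat.of Γ(P, U) (Abelian.Ext (ExtTilde20.secMod (U := U) M) N p))).IsQuasicoherent :=
    inferInstanceAs ((tilde (R := Γ(P, U))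
      (ModuleCat.of Γ(P, U) (Abelian.Ext (ExtTilde20.secMod (U := U) M) N p))).IsQuasicoherent)
  exact QCoh.isQuasicoherent_of_iso ((HomRestrict20.extShRestrictIso hU.fromSpec M p).app W ≪≫
    (ModSite.extSh (O := (Spec Γ(P, U)).sheaf) ((Rres hU).obj M) p).mapIso eW ≪≫
    (ExtTilde20.extShCongr (ExtTilde20.restrictTildeIso hU M) p).app _ ≪≫ a).symm

theorem shortExact_map_TU {S : ShortComplex (ModuleCat.{u} Γ(P, U))} (hS : S.ShortExact) :
    (S.map (TU hU)).ShortExact := by
  haveI : PreservesColimitsOfSize.{0, 0} (TU hU) := (adjT hU).leftAdjoint_preservesColimits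
  haveI := hS.epi_g
  have hz : (ShortComplex.mk (0 : ModuleCat.of Γ(P, U) PUnit.{u + 1} ⟶ S.X₁) S.f zero_comp).Exact :=
    (ShortComplex.exact_iff_mono _ rfl).2 hS.mono_f
  exact { exact := exact_TU hU hS.exact
          mono_f := (exact_TU hU hz).mono_g ((TU hU).map_zero _ _)
          epi_g := (inferInstance : Epi ((TU hU).map S.g)) }

theorem exact_derived_TU (hf : IsLFrame f q) {S : ShortComplex (ModuleCat.{u} Γ(P, U))} (hS : S.ShortExact) :
    Function.Exact ((((homM M).rightDerived c).map ((TU hU).map S.f)).app U)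
        ((((homM M).rightDerived c).map ((TU hU).map S.g)).app U) ∧
      Function.Surjective ((((homM M).rightDerived c).map ((TU hU).map S.g)).app U) := by
  haveI := finite_sections hf
  have hT := shortExact_map_TU hU hS
  let L := les (homM M)
  have hqc : ∀ (W : ModuleCat.{u} Γ(P, U)) (p : ℕ),
      ((Rres hU).obj (((homM M).rightDerived p).obj ((TU hU).obj W))).IsQuasicoherent := fun W p =>
    isQuasicoherent_restrict_derived hU hf _ W ((restrictTU hU).app W) p
  have hzero : (Rres hU).map (L.δ (S.map (TU hU)) hT c (c + 1) rfl) = 0 :=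
    (isZero_derived_TU hU S.X₁ (c + 1) (ext_above hf S.X₁ (c + 1) (Nat.lt_succ_self c))).eq_of_tgt _ _
  obtain ⟨hex, hsur⟩ := app_exact hU (S := ShortComplex.mk (((homM M).rightDerived c).map (S.map (TU hU)).f)
    (((homM M).rightDerived c).map (S.map (TU hU)).g)
    (by rw [← Functor.map_comp, (S.map (TU hU)).zero, Functor.map_zero]))
    (hqc S.X₁ c) (hqc S.X₂ c) (hqc S.X₃ c) ((L.exact₂ (S.map (TU hU)) hT c).map (Rres hU))
  exact ⟨hex, hsur (((L.exact₃ (S.map (TU hU)) hT c (c + 1) rfl).map (Rres hU)).epi_f hzero)⟩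

theorem kcls_map (hf : IsLFrame f q) {L N : ModuleCat.{u} Γ(P, U)} (a : L ⟶ N) (l : L) :
    (((homM M).rightDerived c).map ((TU hU).map a)).app U (kcls hU hf.toIsRFrame (sgm hU L l)) =
      kcls hU hf.toIsRFrame (sgm hU N (a l)) := by
  rw [kcls_natural, sgm_natural]

variable (N : Type u) [AddCommGroup N] [Module Γ(P, U) N]

/-- A free module onto a given one. -/
def cov : ModuleCat.of Γ(P, U) (N →₀ Γ(P, U)) ⟶ ModuleCat.of Γ(P, U) N :=
  ModuleCat.ofHom (Finsupp.linearCombination Γ(P, U) id)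

theorem cov_surjective : Function.Surjective (cov (U := U) N) := fun n => ⟨Finsupp.single n 1, by
  show Finsupp.linearCombination Γ(P, U) id (Finsupp.single n 1) = n
  simp⟩

theorem shortExact_cov :
    (ShortComplex.mk (kernel.ι (cov (U := U) N)) (cov N) (kernel.condition _)).ShortExact :=
  { exact := ShortComplex.exact_kernel _
    mono_f := inferInstance
    epi_g := (ModuleCat.epi_iff_surjective _).2 (cov_surjective N) }

theorem surjective_kcls_TU (hf : IsLFrame f q) :
    Function.Surjective (fun n : N => kcls hU hf.toIsRFrame (sgm hU (ModuleCat.of Γ(P, U) N) n)) := fun y => by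
  obtain ⟨x, hx⟩ := (exact_derived_TU hU hf (shortExact_cov N)).2 y
  obtain ⟨l, hl⟩ := (kcls_flat hU hf (N →₀ Γ(P, U))).1 x
  refine ⟨cov N l, ?_⟩
  refine ((kcls_map hU hf (cov N) l).symm.trans ?_).trans hx
  exact congrArg _ hl

theorem kcls_TU (hf : IsLFrame f q) :
    Function.Surjective (fun n : N => kcls hU hf.toIsRFrame (sgm hU (ModuleCat.of Γ(P, U) N) n)) ∧
      ∀ n : N, kcls hU hf.toIsRFrame (sgm hU (ModuleCat.of Γ(P, U) N) n) = 0 →
        n ∈ (Ideal.span (Set.range f) • ⊤ : Submodule Γ(P, U) N) := by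
  refine ⟨surjective_kcls_TU hU N hf, fun n hn => ?_⟩
  obtain ⟨l, rfl⟩ := cov_surjective (U := U) N n
  obtain ⟨x, hx⟩ := ((exact_derived_TU hU hf (shortExact_cov N)).1 _).1 ((kcls_map hU hf (cov N) l).trans hn)
  obtain ⟨k, hk⟩ := surjective_kcls_TU hU (kernel (cov (U := U) N) : ModuleCat.{u} Γ(P, U)) hf x
  let l' : N →₀ Γ(P, U) := kernel.ι (cov (U := U) N) k
  have e : kcls hU hf.toIsRFrame (sgm hU (ModuleCat.of Γ(P, U) (N →₀ Γ(P, U))) l) =
      kcls hU hf.toIsRFrame (sgm hU (ModuleCat.of Γ(P, U) (N →₀ Γ(P, U))) l') := by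
    refine hx.symm.trans (Eq.trans ?_ (kcls_map hU hf (kernel.ι (cov (U := U) N)) k))
    exact congrArg _ hk.symm
  have h0 : kcls hU hf.toIsRFrame (sgm hU (ModuleCat.of Γ(P, U) (N →₀ Γ(P, U))) (l - l')) = 0 := by
    have e2 := kcls_add hU hf.toIsRFrame (sgm hU (ModuleCat.of Γ(P, U) (N →₀ Γ(P, U))) (l - l'))
      (sgm hU (ModuleCat.of Γ(P, U) (N →₀ Γ(P, U))) l')
    rw [← map_add, sub_add_cancel, e] at e2
    exact right_eq_add.1 e2
  have hmem := (kcls_flat hU hf (N →₀ Γ(P, U))).2 _ h0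
  have h1 : cov N (l - l') = cov N l := by
    have : cov N l' = 0 := ConcreteCategory.congr_hom (kernel.condition (cov (U := U) N)) k
    refine (map_sub (cov (U := U) N).hom l l').trans ?_
    show cov N l - cov N l' = cov N l
    rw [this, sub_zero]
  rw [← h1]
  generalize (l - l') = w at hmem
  induction hmem using Submodule.smul_induction_on' with
  | smul a ha m _ =>
    show (cov (U := U) N).hom (a • m) ∈ _
    rw [map_smul]
    exact Submodule.smul_mem_smul ha trivial
  | add a _ b _ ha hb =>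
    show (cov (U := U) N).hom (a + b) ∈ _
    rw [map_add]
    exact add_mem ha hb

/-- The class map identifies sections modulo the ideal with sections of the Ext sheaf. -/
theorem kcls_qcoh (hf : IsLFrame f q) (F : P.Modules) [F.IsQuasicoherent] :
    Function.Surjective (fun s : Γ(F, U) => kcls hU hf.toIsRFrame s) ∧
      ∀ s : Γ(F, U), kcls hU hf.toIsRFrame s = 0 ↔
        s ∈ (Ideal.span (Set.range f) • ⊤ : Submodule Γ(P, U) Γ(F, U)) := by
  obtain ⟨hs, hk⟩ := kcls_TU hU Γ(F, U) hf
  let e : (TU hU).obj (ModuleCat.of Γ(P, U) Γ(F, U)) ⟶ F :=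
    (TU hU).map (secI hU F).inv ≫ (adjT hU).counit.app F
  have he : ∀ s : Γ(F, U), e.app U (sgm hU (ModuleCat.of Γ(P, U) Γ(F, U)) s) = s := fun s => by
    show ((adjT hU).counit.app F).app U (((TU hU).map (secI hU F).inv).app U _) = s
    rw [sgm_natural]
    unfold sgm
    refine Eq.trans ?_ ((secU hU F).apply_symm_apply s)
    show ((adjT hU).counit.app F).app U (secU hU _ ((adjT hU).unit.app _ _)) = _
    rw [← secU_natural]
    exact congrArg _ (ConcreteCategory.congr_hom ((adjT hU).right_triangle_components F) _)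
  have hiso : IsIso ((Rres hU).map e) := by
    haveI := isIso_restrict_counit hU F
    simp only [e, Functor.map_comp]
    infer_instance
  have hE : IsIso ((Rres hU).map (((homM M).rightDerived c).map e)) := by
    haveI := ExtTilde20.hasInjectiveResolutions_mod (Spec Γ(P, U))
    haveI := SheafCoh.hasSheafHom (Spec Γ(P, U)).sheaf ((Rres hU).obj M)
    exact (NatIso.isIso_map_iff (HomRestrict20.extShRestrictIso hU.fromSpec M c) e).2
      (Functor.map_isIso (ModSite.extSh (O := (Spec Γ(P, U)).sheaf) ((Rres hU).obj M) c) ((Rres hU).map e))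
  have hb := app_bijective_of_isIso_restrict hU _ hE
  have nat : ∀ s : Γ(F, U), kcls hU hf.toIsRFrame s =
      (((homM M).rightDerived c).map e).app U
        (kcls hU hf.toIsRFrame (sgm hU (ModuleCat.of Γ(P, U) Γ(F, U)) s)) := fun s => by
    rw [kcls_natural, he]
  refine ⟨fun y => ?_, fun s => ⟨fun h => ?_, kcls_ker_of_mem hU hf⟩⟩
  · obtain ⟨z, rfl⟩ := hb.2 y
    obtain ⟨s, rfl⟩ := hs z
    exact ⟨s, nat s⟩
  · refine hk s (hb.1 ?_)
    rw [map_zero, ← nat, h]

end GrothLib.FundIso27
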